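import Groth.Agent.Lib.RamFin10.Generic
import Mathlib.LinearAlgebra.Matrix.Determinant.Basic
import Mathlib.LinearAlgebra.Matrix.ToLinearEquiv
import Mathlib.Algebra.Polynomial.BigOperators

/-!
# The matrix pencil of the four-point problem
-/

set_option autoImplicit false
set_option linter.all false
set_option backward.isDefEq.respectTransparency false

universe u

noncomputable section

open Polynomial

namespace GrothLib.FourPts10

open GrothLib.RamFin10 (lowPart coeff_lowPart map_lowPart pow_dvd_iff_taylor)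

section Leibniz

variable {B : Type u} [CommRing B] {m : Type} [Fintype m] [DecidableEq m]

theorem coeff_prod_add {ι : Type} (s : Finset ι) (f : ι → B[X]) (w : ι → ℕ) (h : ∀ i ∈ s, (f i).natDegree ≤ w i) :
    (∏ i ∈ s, f i).natDegree ≤ ∑ i ∈ s, w i ∧
      (∏ i ∈ s, f i).coeff (∑ i ∈ s, w i) = ∏ i ∈ s, (f i).coeff (w i) := by
  classical
  induction s using Finset.induction_on with
  | empty => simp
  | insert a s ha ih =>
    obtain ⟨h1, h2⟩ := ih fun i hi => h i (Finset.mem_insert_of_mem hi)
    have h3 := h a (Finset.mem_insert_self a s)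
    rw [Finset.prod_insert ha, Finset.sum_insert ha, Finset.prod_insert ha]
    exact ⟨natDegree_mul_le.trans (Nat.add_le_add h3 h1),
      by rw [coeff_mul_add_eq_of_natDegree_le h3 h1, h2]⟩

/-- Degree and top coefficient of a determinant with degrees bounded along rows. -/
theorem det_top (M : Matrix m m B[X]) (w : m → ℕ) (h : ∀ i j, (M i j).natDegree ≤ w i) :
    M.det.natDegree ≤ ∑ i, w i ∧ M.det.coeff (∑ i, w i) = (Matrix.of fun i j => (M i j).coeff (w i)).det := by
  have key : ∀ σ : Equiv.Perm m, (∏ i, M (σ i) i).natDegree ≤ ∑ i, w i ∧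
      (∏ i, M (σ i) i).coeff (∑ i, w i) = ∏ i, (M (σ i) i).coeff (w (σ i)) := fun σ => by
    have := coeff_prod_add Finset.univ (fun i => M (σ i) i) (fun i => w (σ i)) fun i _ => h _ _
    rwa [Equiv.sum_comp σ w] at this
  rw [Matrix.det_apply, Matrix.det_apply]
  refine ⟨natDegree_sum_le_of_forall_le _ _ fun σ _ => ?_, ?_⟩
  · rw [Units.smul_def, zsmul_eq_mul]
    exact natDegree_mul_le.trans (by rw [natDegree_intCast, zero_add]; exact (key σ).1)
  · rw [finset_sum_coeff]
    refine Finset.sum_congr rfl fun σ _ => ?_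
    rw [Units.smul_def, Units.smul_def, coeff_smul, (key σ).2]
    simp only [Matrix.of_apply]

/-- Degree and top coefficient of a determinant with degrees bounded along columns. -/
theorem det_top_col (M : Matrix m m B[X]) (w : m → ℕ) (h : ∀ i j, (M i j).natDegree ≤ w j) :
    M.det.natDegree ≤ ∑ i, w i ∧ M.det.coeff (∑ i, w i) = (Matrix.of fun i j => (M i j).coeff (w j)).det := by
  have := det_top M.transpose w fun i j => h j i
  rw [Matrix.det_transpose] at this
  refine ⟨this.1, this.2.trans ?_⟩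
  rw [← Matrix.det_transpose (Matrix.of fun i j => (M i j).coeff (w j))]
  rfl

end Leibniz

section Pencil

variable {B B' : Type u} [CommRing B] [CommRing B'] (e : Fin 4 → ℕ) (d : ℕ)

/-- The rows: conditions at the first two points. -/
abbrev Row (e : Fin 4 → ℕ) : Type := Fin (e 0) ⊕ Fin (e 1)

/-- The columns: the parameters of the members at the last two points. -/
abbrev Col (e : Fin 4 → ℕ) (d : ℕ) : Type := Fin (d + 1 - e 3) ⊕ Fin (d + 1 - e 2)

/-- The member at the last point. -/
def memU (P : Fin 4 → B) (c : Fin (d + 1 - e 3) → B) : B[X] := (X - C (P 3)) ^ e 3 * lowPart c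

/-- The member at the third point. -/
def memV (P : Fin 4 → B) (c : Fin (d + 1 - e 2) → B) : B[X] := (X - C (P 2)) ^ e 2 * lowPart c

/-- The matrix of `(U, V) ↦ ((sU + tV) mod (X - P₀)^e₀, (s'U + t'V) mod (X - P₁)^e₁)`. -/
def mat (P : Fin 4 → B) (s t s' t' : B) : Matrix (Row e) (Col e d) B :=
  Matrix.of fun r c => match r, c with
    | Sum.inl l, Sum.inl j => s * (taylor (P 0) ((X - C (P 3)) ^ e 3 * X ^ (j : ℕ))).coeff l
    | Sum.inl l, Sum.inr j => t * (taylor (P 0) ((X - C (P 2)) ^ e 2 * X ^ (j : ℕ))).coeff l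
    | Sum.inr l, Sum.inl j => s' * (taylor (P 1) ((X - C (P 3)) ^ e 3 * X ^ (j : ℕ))).coeff l
    | Sum.inr l, Sum.inr j => t' * (taylor (P 1) ((X - C (P 2)) ^ e 2 * X ^ (j : ℕ))).coeff l

theorem map_taylor_coeff (φ : B →+* B') (a : B) (q : B[X]) (l : ℕ) :
    φ ((taylor a q).coeff l) = (taylor (φ a) (q.map φ)).coeff l := by
  rw [← coeff_map, taylor_apply, taylor_apply, map_comp, Polynomial.map_add, map_X, map_C]

theorem taylor_C_coeff (a b : B) (i j l : ℕ) :
    (taylor (C a) ((X - C (C b)) ^ i * X ^ j)).coeff l = C ((taylor a ((X - C b) ^ i * X ^ j)).coeff l) := by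
  rw [map_taylor_coeff]
  simp only [Polynomial.map_mul, Polynomial.map_pow, Polynomial.map_sub, Polynomial.map_X, Polynomial.map_C]

theorem map_mat (φ : B →+* B') (P : Fin 4 → B) (s t s' t' : B) :
    (mat e d P s t s' t').map φ = mat e d (φ ∘ P) (φ s) (φ t) (φ s') (φ t') := by
  ext (l | l) (j | j) <;>
    simp only [mat, Matrix.map_apply, Matrix.of_apply, map_mul φ, map_taylor_coeff, Polynomial.map_mul,
      Polynomial.map_pow, Polynomial.map_sub, Polynomial.map_X, Polynomial.map_C, Function.comp_apply]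

theorem mulVec_mat (P : Fin 4 → B) (s t s' t' : B) (x : Col e d → B) :
    (∀ l : Fin (e 0), (mat e d P s t s' t').mulVec x (Sum.inl l) =
      (taylor (P 0) (C s * memU e d P (x ∘ Sum.inl) + C t * memV e d P (x ∘ Sum.inr))).coeff l) ∧
    (∀ l : Fin (e 1), (mat e d P s t s' t').mulVec x (Sum.inr l) =
      (taylor (P 1) (C s' * memU e d P (x ∘ Sum.inl) + C t' * memV e d P (x ∘ Sum.inr))).coeff l) := by
  have key : ∀ (a : B) (m : ℕ) (b : B) (i : ℕ) (c : Fin m → B) (s : B) (l : ℕ),
      (taylor a (C s * ((X - C b) ^ i * lowPart c))).coeff l =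
        ∑ j : Fin m, s * (taylor a ((X - C b) ^ i * X ^ (j : ℕ))).coeff l * c j := by
    intro a m b i c s l
    simp only [lowPart, Finset.mul_sum, map_sum, finset_sum_coeff]
    refine Finset.sum_congr rfl fun j _ => ?_
    rw [show C s * ((X - C b) ^ i * (C (c j) * X ^ (j : ℕ))) = C (s * c j) * ((X - C b) ^ i * X ^ (j : ℕ)) by
      rw [map_mul]; ring, taylor_mul, taylor_C, coeff_C_mul]
    ring
  constructor <;> intro l <;>
  · simp only [Matrix.mulVec, dotProduct, Fintype.sum_sum_type, mat, Matrix.of_apply, memU, memV, map_add,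
      coeff_add, key, Function.comp_apply]

variable {e d}

/-- Square form of the matrix. -/
def sqMat (σ : Row e ≃ Col e d) (P : Fin 4 → B) (s t s' t' : B) : Matrix (Row e) (Row e) B :=
  (mat e d P s t s' t').submatrix id σ

theorem map_sqMat (σ : Row e ≃ Col e d) (φ : B →+* B') (P : Fin 4 → B) (s t s' t' : B) :
    (sqMat σ P s t s' t').map φ = sqMat σ (φ ∘ P) (φ s) (φ t) (φ s') (φ t') := by
  rw [sqMat, sqMat, ← map_mat, Matrix.submatrix_map]

/-- The eliminant of the four-point problem. -/
def elim (σ : Row e ≃ Col e d) (P : Fin 4 → B) : B[X] := (sqMat σ (fun i => C (P i)) X 1 1 1).det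

theorem map_elim (σ : Row e ≃ Col e d) (φ : B →+* B') (P : Fin 4 → B) :
    (elim σ P).map φ = elim σ fun i => φ (P i) := by
  rw [← coe_mapRingHom, elim, elim, RingHom.map_det, RingHom.mapMatrix_apply, map_sqMat]
  simp [Function.comp_def]

theorem eval_elim (σ : Row e ≃ Col e d) (P : Fin 4 → B) (μ : B) :
    (elim σ P).eval μ = (sqMat σ P μ 1 1 1).det := by
  rw [← coe_evalRingHom, elim, RingHom.map_det, RingHom.mapMatrix_apply, map_sqMat]
  simp [Function.comp_def]

theorem natDegree_elim_row (σ : Row e ≃ Col e d) (P : Fin 4 → B) :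
    (elim σ P).natDegree ≤ e 0 ∧ (elim σ P).coeff (e 0) = (sqMat σ P 1 0 1 1).det := by
  classical
  have hC : sqMat σ (fun i => C (P i)) (X : B[X]) 1 1 1 = Matrix.of fun r c => match r, σ c with
      | Sum.inl l, Sum.inl j => X * C ((taylor (P 0) ((X - C (P 3)) ^ e 3 * X ^ (j : ℕ))).coeff l)
      | Sum.inl l, Sum.inr j => C ((taylor (P 0) ((X - C (P 2)) ^ e 2 * X ^ (j : ℕ))).coeff l)
      | Sum.inr l, Sum.inl j => C ((taylor (P 1) ((X - C (P 3)) ^ e 3 * X ^ (j : ℕ))).coeff l)
      | Sum.inr l, Sum.inr j => C ((taylor (P 1) ((X - C (P 2)) ^ e 2 * X ^ (j : ℕ))).coeff l) := by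
    ext1 r c
    rcases r with l | l <;> rcases hc : σ c with j | j <;>
      simp only [sqMat, Matrix.submatrix_apply, id_eq, mat, Matrix.of_apply, hc, taylor_C_coeff, one_mul]
  have h := det_top (sqMat σ (fun i => C (P i)) (X : B[X]) 1 1 1) (Sum.elim (fun _ => 1) fun _ => 0) (by
    rw [hC]
    intro r c
    rcases r with l | l <;> rcases hc : σ c with j | j <;> simp only [Matrix.of_apply, hc, Sum.elim_inl, Sum.elim_inr]
    · exact natDegree_mul_le.trans (by rw [natDegree_C, add_zero]; exact natDegree_X_le)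
    · simp
    · simp
    · simp)
  simp only [Fintype.sum_sum_type, Sum.elim_inl, Sum.elim_inr, Finset.sum_const, Finset.card_univ, Fintype.card_fin,
    smul_eq_mul, mul_one, mul_zero, add_zero] at h
  refine ⟨h.1, h.2.trans (congrArg Matrix.det ?_)⟩
  rw [hC]
  ext1 r c
  rcases r with l | l <;> rcases hc : σ c with j | j <;>
    simp only [sqMat, Matrix.submatrix_apply, id_eq, mat, Matrix.of_apply, hc, coeff_X_mul, coeff_C_zero, coeff_C_ne_zero,
      Sum.elim_inl, Sum.elim_inr, coeff_one_zero, one_mul, zero_mul, one_ne_zero, Ne, not_false_eq_true, coeff_C, if_false, if_true]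

theorem natDegree_elim_col (σ : Row e ≃ Col e d) (P : Fin 4 → B) :
    (elim σ P).natDegree ≤ d + 1 - e 3 ∧ (elim σ P).coeff (d + 1 - e 3) = (sqMat σ P 1 1 0 1).det := by
  classical
  have hC : sqMat σ (fun i => C (P i)) (X : B[X]) 1 1 1 = Matrix.of fun r c => match r, σ c with
      | Sum.inl l, Sum.inl j => X * C ((taylor (P 0) ((X - C (P 3)) ^ e 3 * X ^ (j : ℕ))).coeff l)
      | Sum.inl l, Sum.inr j => C ((taylor (P 0) ((X - C (P 2)) ^ e 2 * X ^ (j : ℕ))).coeff l)
      | Sum.inr l, Sum.inl j => C ((taylor (P 1) ((X - C (P 3)) ^ e 3 * X ^ (j : ℕ))).coeff l)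
      | Sum.inr l, Sum.inr j => C ((taylor (P 1) ((X - C (P 2)) ^ e 2 * X ^ (j : ℕ))).coeff l) := by
    ext1 r c
    rcases r with l | l <;> rcases hc : σ c with j | j <;>
      simp only [sqMat, Matrix.submatrix_apply, id_eq, mat, Matrix.of_apply, hc, taylor_C_coeff, one_mul]
  have h := det_top_col (sqMat σ (fun i => C (P i)) (X : B[X]) 1 1 1)
    (fun c => Sum.elim (fun _ => 1) (fun _ => 0) (σ c)) (by
    rw [hC]
    intro r c
    rcases r with l | l <;> rcases hc : σ c with j | j <;> simp only [Matrix.of_apply, hc, Sum.elim_inl, Sum.elim_inr]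
    · exact natDegree_mul_le.trans (by rw [natDegree_C, add_zero]; exact natDegree_X_le)
    · simp
    · simp
    · simp)
  rw [Equiv.sum_comp σ (Sum.elim (fun _ => 1) (fun _ => 0))] at h
  simp only [Fintype.sum_sum_type, Sum.elim_inl, Sum.elim_inr, Finset.sum_const, Finset.card_univ, Fintype.card_fin,
    smul_eq_mul, mul_one, mul_zero, add_zero] at h
  refine ⟨h.1, h.2.trans (congrArg Matrix.det ?_)⟩
  rw [hC]
  ext1 r c
  rcases r with l | l <;> rcases hc : σ c with j | j <;>
    simp only [sqMat, Matrix.submatrix_apply, id_eq, mat, Matrix.of_apply, hc, coeff_X_mul, coeff_C_zero, coeff_C_ne_zero,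
      Sum.elim_inl, Sum.elim_inr, coeff_one_zero, one_mul, zero_mul, one_ne_zero, Ne, not_false_eq_true, coeff_C, if_false, if_true]

end Pencil

section Kernel

variable {F : Type u} [Field F] {e : Fin 4 → ℕ} {d : ℕ}

theorem memU_spec (P : Fin 4 → F) (x : Fin (d + 1 - e 3) → F) (h3 : e 3 ≤ d) :
    (X - C (P 3)) ^ e 3 ∣ memU e d P x ∧ (memU e d P x).natDegree ≤ d ∧ (memU e d P x = 0 → x = 0) := by
  refine ⟨dvd_mul_right _ _, natDegree_mul_le.trans ?_, fun h => ?_⟩
  · have : (lowPart x).natDegree ≤ d - e 3 := natDegree_le_iff_coeff_eq_zero.2 fun j hj => by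
      rw [coeff_lowPart, dif_neg (by omega)]
    rw [natDegree_pow, natDegree_X_sub_C]
    omega
  · funext j
    have := congrArg (coeff · j.1) ((mul_eq_zero.1 h).resolve_left (pow_ne_zero _ (X_sub_C_ne_zero _)))
    simpa [coeff_lowPart, j.2] using this

theorem memV_spec (P : Fin 4 → F) (x : Fin (d + 1 - e 2) → F) (h2 : e 2 ≤ d) :
    (X - C (P 2)) ^ e 2 ∣ memV e d P x ∧ (memV e d P x).natDegree ≤ d ∧ (memV e d P x = 0 → x = 0) := by
  refine ⟨dvd_mul_right _ _, natDegree_mul_le.trans ?_, fun h => ?_⟩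
  · have : (lowPart x).natDegree ≤ d - e 2 := natDegree_le_iff_coeff_eq_zero.2 fun j hj => by
      rw [coeff_lowPart, dif_neg (by omega)]
    rw [natDegree_pow, natDegree_X_sub_C]
    omega
  · funext j
    have := congrArg (coeff · j.1) ((mul_eq_zero.1 h).resolve_left (pow_ne_zero _ (X_sub_C_ne_zero _)))
    simpa [coeff_lowPart, j.2] using this

theorem exists_lowPart {b : F} {i m : ℕ} {q : F[X]} (hdvd : (X - C b) ^ i ∣ q) (hq : q.natDegree < i + m) :
    ∃ c : Fin m → F, q = (X - C b) ^ i * lowPart c := by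
  obtain ⟨w, rfl⟩ := hdvd
  refine ⟨fun j => w.coeff j, ?_⟩
  congr 1
  ext j
  rw [coeff_lowPart]
  split_ifs with h
  · rfl
  · by_cases hw : w = 0
    · simp [hw]
    rw [natDegree_mul (pow_ne_zero _ (X_sub_C_ne_zero _)) hw, natDegree_pow, natDegree_X_sub_C, mul_one] at hq
    exact coeff_eq_zero_of_natDegree_lt (by omega)

/-- A vector of the kernel gives a pair of members with the two congruences. -/
theorem mulVec_eq_zero_iff (σ : Row e ≃ Col e d) (P : Fin 4 → F) (s t s' t' : F) (y : Row e → F) :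
    (sqMat σ P s t s' t').mulVec y = 0 ↔
      (X - C (P 0)) ^ e 0 ∣ C s * memU e d P ((y ∘ σ.symm) ∘ Sum.inl) + C t * memV e d P ((y ∘ σ.symm) ∘ Sum.inr) ∧
      (X - C (P 1)) ^ e 1 ∣ C s' * memU e d P ((y ∘ σ.symm) ∘ Sum.inl) + C t' * memV e d P ((y ∘ σ.symm) ∘ Sum.inr) := by
  rw [sqMat, Matrix.submatrix_mulVec_equiv, pow_dvd_iff_taylor, pow_dvd_iff_taylor]
  obtain ⟨h0, h1⟩ := mulVec_mat e d P s t s' t' (y ∘ σ.symm)
  constructor
  · intro h
    refine ⟨fun l hl => ?_, fun l hl => ?_⟩
    · rw [← h0 ⟨l, hl⟩]; exact congrFun h (Sum.inl ⟨l, hl⟩)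
    · rw [← h1 ⟨l, hl⟩]; exact congrFun h (Sum.inr ⟨l, hl⟩)
  · rintro ⟨g0, g1⟩
    funext r
    rcases r with l | l
    · exact (h0 l).trans (g0 l l.2)
    · exact (h1 l).trans (g1 l l.2)

end Kernel

section Multiple

variable {F : Type u} [Field F] {m : Type} [Fintype m] [DecidableEq m]

/-- Expansion of a determinant at a point where a vector is killed. -/
theorem det_factor (N : Matrix m m F[X]) (μ : F) (x : m → F) (i : m) (hNx : (N.map (eval μ)).mulVec x = 0) :
    ∃ h : m → F[X], (∀ r, (h r).eval μ = (N.map fun q => (derivative q).eval μ).mulVec x r) ∧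
      C (x i) * N.det = (X - C μ) * (N.updateCol i h).det := by
  classical
  have hcol : ∀ r, ∃ h : F[X], (∑ j, C (x j) * N r j) = (X - C μ) * h := fun r => by
    refine dvd_iff_isRoot.2 ?_
    have := congrFun hNx r
    simpa [IsRoot, Matrix.mulVec, dotProduct, eval_finset_sum, mul_comm] using this
  choose h hh using hcol
  have hheval : ∀ r, (h r).eval μ = (N.map fun q => (derivative q).eval μ).mulVec x r := fun r => by
    have := congrArg (fun q => (derivative q).eval μ) (hh r)
    simp only [derivative_sum, derivative_C_mul, derivative_mul, derivative_sub, derivative_X, derivative_C,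
      eval_finset_sum, eval_add, eval_mul, eval_C, eval_sub, eval_X, sub_zero, one_mul, sub_self, zero_mul,
      add_zero] at this
    rw [← this]
    simp [Matrix.mulVec, dotProduct, mul_comm]
  refine ⟨h, hheval, ?_⟩
  have := Matrix.det_updateCol_sum N i (fun j => C (x j))
  simp only [smul_eq_mul, hh] at this
  rw [← this]
  exact Matrix.det_updateCol_smul N i (X - C μ) h

/-- Two independent vectors killed at a point give a double root. -/
theorem derivative_det_eval_eq_zero (N : Matrix m m F[X]) (μ : F) (x z : m → F) (hx : x ≠ 0)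
    (hNx : (N.map (eval μ)).mulVec x = 0) (hNz : (N.map (eval μ)).mulVec z = 0) (hind : ∀ t : F, z ≠ t • x) :
    (derivative N.det).eval μ = 0 := by
  classical
  obtain ⟨i, hi⟩ : ∃ i, x i ≠ 0 := Function.ne_iff.1 hx
  obtain ⟨h, hheval, hdet⟩ := det_factor N μ x i hNx
  set w := z - (z i / x i) • x with hw
  have hwi : w i = 0 := by simp [hw, hi]
  have hw0 : w ≠ 0 := fun h0 => hind _ (sub_eq_zero.1 h0)
  have hNw : (N.map (eval μ)).mulVec w = 0 := by
    rw [hw, Matrix.mulVec_sub, Matrix.mulVec_smul, hNx, hNz, smul_zero, sub_zero]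
  have h0 : ((N.updateCol i h).map (eval μ)).det = 0 := by
    rw [← Matrix.exists_mulVec_eq_zero_iff]
    refine ⟨w, hw0, funext fun r => ?_⟩
    refine Eq.trans ?_ (congrFun hNw r)
    simp only [Matrix.mulVec, dotProduct, Matrix.map_apply, Matrix.updateCol_apply]
    refine Finset.sum_congr rfl fun j _ => ?_
    rcases eq_or_ne j i with rfl | hj
    · rw [hwi, mul_zero, mul_zero]
    · rw [if_neg hj]
  have := congrArg (fun q => (derivative q).eval μ) hdet
  simp only [derivative_C_mul, derivative_mul, derivative_sub, derivative_X, derivative_C, eval_add, eval_mul,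
    eval_C, eval_sub, eval_X, sub_zero, one_mul, sub_self, zero_mul, add_zero, eval_zero, zero_add] at this
  have h1 : (N.updateCol i h).det.eval μ = 0 := by
    rw [← coe_evalRingHom, RingHom.map_det, RingHom.mapMatrix_apply]
    exact h0
  rw [h1] at this
  exact (mul_eq_zero.1 this).resolve_left hi

/-- At a double root of a determinant there is a second tangent vector. -/
theorem exists_second (N : Matrix m m F[X]) (μ : F) (hd : (derivative N.det).eval μ = 0)
    (x : m → F) (hx : x ≠ 0) (hNx : (N.map (eval μ)).mulVec x = 0) :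
    ∃ (z : m → F) (c : F), ((c = 0 ∧ ∀ t : F, z ≠ t • x) ∨ c = 1) ∧
      (N.map (eval μ)).mulVec z + c • (N.map fun q => (derivative q).eval μ).mulVec x = 0 := by
  classical
  obtain ⟨i, hi⟩ : ∃ i, x i ≠ 0 := Function.ne_iff.1 hx
  obtain ⟨h, hheval, hdet⟩ := det_factor N μ x i hNx
  have h0 : ((N.map (eval μ)).updateCol i fun r => (h r).eval μ).det = 0 := by
    have := congrArg (fun q => (derivative q).eval μ) hdet
    simp only [derivative_C_mul, derivative_mul, derivative_sub, derivative_X, derivative_C, eval_add, eval_mul,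
      eval_C, eval_sub, eval_X, sub_zero, one_mul, sub_self, zero_mul, add_zero, hd, mul_zero, eval_zero] at this
    rw [← coe_evalRingHom, RingHom.map_det, RingHom.mapMatrix_apply, Matrix.map_updateCol] at this
    exact this.symm
  obtain ⟨z, hz, hMz⟩ := Matrix.exists_mulVec_eq_zero_iff.2 h0
  have hsplit : (N.map (eval μ)).mulVec (Function.update z i 0) +
      z i • (N.map fun q => (derivative q).eval μ).mulVec x = 0 := by
    funext r
    have := congrFun hMz r
    simp only [Matrix.mulVec, dotProduct, Matrix.updateCol_apply, Pi.zero_apply] at this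
    simp only [Pi.add_apply, Pi.smul_apply, Pi.zero_apply, smul_eq_mul, ← hheval]
    refine Eq.trans ?_ this
    simp only [Matrix.mulVec, dotProduct]
    rw [← Finset.add_sum_erase _ _ (Finset.mem_univ i)]
    conv_rhs => rw [← Finset.add_sum_erase _ _ (Finset.mem_univ i)]
    simp only [Function.update_self, mul_zero, zero_add, if_true]
    have hs : ∑ j ∈ Finset.univ.erase i, (N.map (eval μ)) r j * Function.update z i 0 j =
        ∑ j ∈ Finset.univ.erase i, (if j = i then (h r).eval μ else (N.map (eval μ)) r j) * z j :=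
      Finset.sum_congr rfl fun j hj => by
        rw [Function.update_of_ne (Finset.mem_erase.1 hj).1, if_neg (Finset.mem_erase.1 hj).1]
    rw [hs]
    ring
  by_cases hzi : z i = 0
  · refine ⟨Function.update z i 0, 0, Or.inl ⟨rfl, fun t ht => hz ?_⟩, by simpa [hzi] using hsplit⟩
    have ht0 : t = 0 := by
      have := congrFun ht i
      simp only [Function.update_self, Pi.smul_apply, smul_eq_mul] at this
      exact (mul_eq_zero.1 this.symm).resolve_right hi
    rw [ht0, zero_smul] at ht
    funext j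
    rcases eq_or_ne j i with rfl | hj
    · exact hzi
    · simpa [Function.update_of_ne hj] using congrFun ht j
  · refine ⟨(z i)⁻¹ • Function.update z i 0, 1, Or.inr rfl, ?_⟩
    have := congrArg ((z i)⁻¹ • ·) hsplit
    simp only [smul_add, smul_smul, inv_mul_cancel₀ hzi, smul_zero] at this
    rw [Matrix.mulVec_smul]
    exact this

end Multiple

end GrothLib.FourPts10
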