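import Groth.Agent.Lib.FourPts10.Pencil
import Groth.Agent.Lib.FourPts10.Mat
import Mathlib.RingTheory.Etale.Kaehler
import Mathlib.RingTheory.Etale.Field
import Mathlib.FieldTheory.SeparableClosure
import Mathlib.FieldTheory.IsSepClosed
import Mathlib.Algebra.MvPolynomial.PDeriv
import Mathlib.RingTheory.Localization.Integral

/-!
# The number of rational functions of degree below the characteristic ramified at four general points
-/

set_option autoImplicit false
set_option linter.all false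
set_option backward.isDefEq.respectTransparency false

universe u

noncomputable section

open Polynomial W4c1limliniiii

namespace GrothLib.FourPts10

open GrothLib.RamFin10 (Admissible1 exists_good sum_sub_one Dc Dc_C Dc_X Dc_mul Dc_pow_sub coeff_Dc lowPart
  coeff_lowPart)

variable {F : Type u} [Field F] {p d : ℕ} {e : Fin 4 → ℕ}

/-- The standing numerical hypotheses. -/
structure Nums (p d : ℕ) (e : Fin 4 → ℕ) : Prop where
  small : p = 0 ∨ d < p
  adm : (∀ i, 1 ≤ e i) ∧ e 0 + e 1 + e 2 + e 3 = 2 * d + 2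
  mono : e 0 ≤ e 1 ∧ e 1 ≤ e 2 ∧ e 2 ≤ e 3
  top : e 3 ≤ d

theorem Nums.sum_sub (h : Nums p d e) : ∑ i, (e i - 1) = 2 * d - 2 := by
  rw [Fin.sum_univ_four]
  have := h.adm.1 0; have := h.adm.1 1; have := h.adm.1 2; have := h.adm.1 3; have := h.adm.2
  omega

theorem Nums.one_le (h : Nums p d e) : 1 ≤ d := (h.adm.1 3).trans h.top

theorem Nums.equiv (h : Nums p d e) : Nonempty (Row e ≃ Col e d) := by
  refine ⟨Fintype.equivOfCardEq ?_⟩
  simp only [Fintype.card_sum, Fintype.card_fin]
  have := h.top; have := h.mono; have := h.adm.2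
  omega

theorem eq_zero_of_dvd {P : Fin 4 → F} (hP : Function.Injective P) (S : Finset (Fin 4)) {q : F[X]}
    (hq : q.natDegree ≤ d) (hd : ∀ i ∈ S, (X - C (P i)) ^ e i ∣ q) (hlt : d < ∑ i ∈ S, e i) : q = 0 := by
  by_contra hq0
  have := natDegree_le_of_dvd (Finset.prod_dvd_of_coprime (fun i _ j _ hij =>
    ((pairwise_coprime_X_sub_C hP hij).pow : IsCoprime _ _)) hd) hq0
  rw [natDegree_prod _ _ fun i _ => pow_ne_zero _ (X_sub_C_ne_zero _)] at this
  simp only [natDegree_pow, natDegree_X_sub_C, mul_one] at this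
  omega

theorem mul_smul_lowPart (c : F) {m : ℕ} (b : F) (i : ℕ) (x : Fin m → F) :
    (X - C b) ^ i * lowPart (c • x) = C c * ((X - C b) ^ i * lowPart x) := by
  have : lowPart (c • x) = C c * lowPart x := by
    ext j
    rw [coeff_C_mul, coeff_lowPart, coeff_lowPart]
    split_ifs <;> simp
  rw [this]; ring

theorem indep_mem (h : Nums p d e) {P : Fin 4 → F} (hP : Function.Injective P) {U W : F[X]}
    (hU : U.natDegree ≤ d) (hW : W.natDegree ≤ d) (hU0 : U ≠ 0) (hW0 : W ≠ 0)
    (h3 : (X - C (P 3)) ^ e 3 ∣ U) (h2 : (X - C (P 2)) ^ e 2 ∣ W) :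
    ∀ x y : F, C x * U + C y * W = 0 → x = 0 ∧ y = 0 := by
  intro x y hxy
  by_cases hx : x = 0
  · subst hx
    simp only [map_zero, zero_mul, zero_add, mul_eq_zero, hW0, or_false, C_eq_zero] at hxy
    exact ⟨rfl, hxy⟩
  refine absurd (eq_zero_of_dvd (e := e) hP {3, 2} hU ?_ ?_) hU0
  · intro i hi
    rcases Finset.mem_insert.1 hi with rfl | hi
    · exact h3
    · rw [Finset.mem_singleton] at hi; subst hi
      refine (IsUnit.dvd_mul_left (isUnit_C.2 (IsUnit.mk0 _ hx))).1 ?_
      rw [eq_neg_of_add_eq_zero_left hxy]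
      exact (h2.mul_left _).neg_right
  · rw [Finset.sum_pair (by decide)]
    have := h.mono; have := h.adm.2
    omega

/-- A kernel vector gives members of a pencil. -/
theorem members (h : Nums p d e) (σ : Row e ≃ Col e d) (P : Fin 4 → F) (s t s' t' : F) (y : Row e → F)
    (hy : (sqMat σ P s t s' t').mulVec y = 0) :
    ∃ U W : F[X], U.natDegree ≤ d ∧ W.natDegree ≤ d ∧ (X - C (P 3)) ^ e 3 ∣ U ∧ (X - C (P 2)) ^ e 2 ∣ W ∧
      (X - C (P 0)) ^ e 0 ∣ C s * U + C t * W ∧ (X - C (P 1)) ^ e 1 ∣ C s' * U + C t' * W ∧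
      (U = 0 → W = 0 → y = 0) ∧
      U = memU e d P ((y ∘ σ.symm) ∘ Sum.inl) ∧ W = memV e d P ((y ∘ σ.symm) ∘ Sum.inr) := by
  have h2 : e 2 ≤ d := h.mono.2.2.trans h.top
  obtain ⟨g0, g1⟩ := (mulVec_eq_zero_iff σ P s t s' t' y).1 hy
  obtain ⟨a1, a2, a3⟩ := memU_spec (d := d) P ((y ∘ σ.symm) ∘ Sum.inl) h.top
  obtain ⟨b1, b2, b3⟩ := memV_spec (d := d) P ((y ∘ σ.symm) ∘ Sum.inr) h2
  refine ⟨_, _, a2, b2, a1, b1, g0, g1, fun hU hW => ?_, rfl, rfl⟩
  funext r
  have hcol : ∀ c, y (σ.symm c) = 0 := by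
    rintro (j | j)
    · exact congrFun (a3 hU) j
    · exact congrFun (b3 hW) j
  simpa using hcol (σ r)

/-- Members come from a kernel vector. -/
theorem exists_vec (h : Nums p d e) (σ : Row e ≃ Col e d) (P : Fin 4 → F) {U W : F[X]}
    (hU : U.natDegree ≤ d) (hW : W.natDegree ≤ d) (h3 : (X - C (P 3)) ^ e 3 ∣ U)
    (h2 : (X - C (P 2)) ^ e 2 ∣ W) :
    ∃ y : Row e → F, U = memU e d P ((y ∘ σ.symm) ∘ Sum.inl) ∧ W = memV e d P ((y ∘ σ.symm) ∘ Sum.inr) := by
  have h2' : e 2 ≤ d := h.mono.2.2.trans h.top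
  have := h.top
  obtain ⟨a, ha⟩ := exists_lowPart (m := d + 1 - e 3) h3 (by omega)
  obtain ⟨b, hb⟩ := exists_lowPart (m := d + 1 - e 2) h2 (by omega)
  refine ⟨fun r => Sum.elim a b (σ r), ?_, ?_⟩
  · rw [ha]; unfold memU; congr 2; funext j; simp
  · rw [hb]; unfold memV; congr 2; funext j; simp

section Good

variable {k : Type u} [Field k] [IsAlgClosed k] [CharP k p] {P : Fin 4 → k}

/-- No member of a pencil vanishes at two of the points. -/
def Sep (d : ℕ) (e : Fin 4 → ℕ) (P : Fin 4 → k) : Prop :=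
  ∀ V ∈ ramMaps d P e, ∀ i j : Fin 4, i ≠ j → ∀ s ∈ V, (s.IsRoot (P i) ∧ s.IsRoot (P j)) → s = 0

theorem isRoot_of_dvd (h : Nums p d e) {i : Fin 4} {q : k[X]} (hd : (X - C (P i)) ^ e i ∣ q) : q.IsRoot (P i) :=
  dvd_iff_isRoot.1 ((dvd_pow_self _ (by have := h.adm.1 i; omega)).trans hd)

theorem span_mem (h : Nums p d e) (hP : Function.Injective P) {U W : k[X]}
    (hU : U.natDegree ≤ d) (hW : W.natDegree ≤ d) (hU0 : U ≠ 0) (hW0 : W ≠ 0)
    (h3 : (X - C (P 3)) ^ e 3 ∣ U) (h2 : (X - C (P 2)) ^ e 2 ∣ W) {s t s' t' : k} (hst : s ≠ 0 ∨ t ≠ 0)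
    (hst' : s' ≠ 0 ∨ t' ≠ 0) (h0 : (X - C (P 0)) ^ e 0 ∣ C s * U + C t * W)
    (h1 : (X - C (P 1)) ^ e 1 ∣ C s' * U + C t' * W) :
    Submodule.span k {U, W} ∈ ramMaps d P e := by
  refine mem_ramMaps (p := p) h.small h.one_le hP h.adm.1 h.sum_sub hU hW (indep_mem h hP hU hW hU0 hW0 h3 h2) ?_
  intro i
  fin_cases i
  · exact ⟨s, t, hst, h0⟩
  · exact ⟨s', t', hst', h1⟩
  · exact ⟨0, 1, Or.inr one_ne_zero, by simpa using h2⟩
  · exact ⟨1, 0, Or.inl one_ne_zero, by simpa using h3⟩

theorem det_ne_zero (h : Nums p d e) (hP : Function.Injective P) (hsep : Sep d e P) (σ : Row e ≃ Col e d)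
    {s t s' t' : k}
    (hcase : (s = 0 ∧ t = 1 ∧ s' = 1 ∧ t' = 1) ∨ (s = 1 ∧ t = 1 ∧ s' = 1 ∧ t' = 1) ∨
      (s = 1 ∧ t = 0 ∧ s' = 1 ∧ t' = 1 ∧ e 0 ≤ d + 1 - e 3) ∨
      (s = 1 ∧ t = 1 ∧ s' = 0 ∧ t' = 1 ∧ d + 1 - e 3 ≤ e 0)) :
    (sqMat σ P s t s' t').det ≠ 0 := by
  intro hdet
  obtain ⟨y, hy0, hy⟩ := Matrix.exists_mulVec_eq_zero_iff.2 hdet
  obtain ⟨U, W, hUd, hWd, h3, h2, h0, h1, hz, -, -⟩ := members h σ P s t s' t' y hy
  have hm := h.mono; have hs := h.adm.2; have htop := h.top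
  by_cases hU0 : U = 0
  · have hW0 : W ≠ 0 := fun hW0 => hy0 (hz hU0 hW0)
    subst hU0
    refine hW0 ?_
    simp only [mul_zero, zero_add] at h0 h1
    rcases hcase with ⟨rfl, rfl, rfl, rfl⟩ | ⟨rfl, rfl, rfl, rfl⟩ | ⟨rfl, rfl, rfl, rfl, hle⟩ |
      ⟨rfl, rfl, rfl, rfl, hle⟩
    all_goals simp only [map_one, map_zero, one_mul, zero_mul] at h0 h1
    · exact eq_zero_of_dvd hP {0, 1, 2} hWd (by intro i hi; fin_cases hi <;> assumption)
        (by simp only [Finset.sum_insert, Finset.mem_insert, Finset.mem_singleton, Finset.sum_singleton, Fin.reduceEq,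
          or_self, not_false_eq_true]; omega)
    · exact eq_zero_of_dvd hP {0, 1, 2} hWd (by intro i hi; fin_cases hi <;> assumption)
        (by simp only [Finset.sum_insert, Finset.mem_insert, Finset.mem_singleton, Finset.sum_singleton, Fin.reduceEq,
          or_self, not_false_eq_true]; omega)
    · exact eq_zero_of_dvd hP {1, 2} hWd (by intro i hi; fin_cases hi <;> assumption)
        (by rw [Finset.sum_pair (by decide)]; omega)
    · exact eq_zero_of_dvd hP {0, 1, 2} hWd (by intro i hi; fin_cases hi <;> assumption)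
        (by simp only [Finset.sum_insert, Finset.mem_insert, Finset.mem_singleton, Finset.sum_singleton, Fin.reduceEq,
          or_self, not_false_eq_true]; omega)
  by_cases hW0 : W = 0
  · subst hW0
    refine hU0 ?_
    simp only [mul_zero, add_zero] at h0 h1
    rcases hcase with ⟨rfl, rfl, rfl, rfl⟩ | ⟨rfl, rfl, rfl, rfl⟩ | ⟨rfl, rfl, rfl, rfl, hle⟩ |
      ⟨rfl, rfl, rfl, rfl, hle⟩
    all_goals simp only [map_one, map_zero, one_mul, zero_mul] at h0 h1
    · exact eq_zero_of_dvd hP {1, 3} hUd (by intro i hi; fin_cases hi <;> assumption)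
        (by rw [Finset.sum_pair (by decide)]; omega)
    · exact eq_zero_of_dvd hP {0, 1, 3} hUd (by intro i hi; fin_cases hi <;> assumption)
        (by simp only [Finset.sum_insert, Finset.mem_insert, Finset.mem_singleton, Finset.sum_singleton, Fin.reduceEq,
          or_self, not_false_eq_true]; omega)
    · exact eq_zero_of_dvd hP {0, 1, 3} hUd (by intro i hi; fin_cases hi <;> assumption)
        (by simp only [Finset.sum_insert, Finset.mem_insert, Finset.mem_singleton, Finset.sum_singleton, Fin.reduceEq,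
          or_self, not_false_eq_true]; omega)
    · exact eq_zero_of_dvd hP {0, 3} hUd (by intro i hi; fin_cases hi <;> assumption)
        (by rw [Finset.sum_pair (by decide)]; omega)
  have hind := indep_mem h hP hUd hWd hU0 hW0 h3 h2
  have hmem := span_mem h hP hUd hWd hU0 hW0 h3 h2 (s := s) (t := t) (s' := s') (t' := t')
    (by rcases hcase with ⟨rfl, rfl, rfl, rfl⟩ | ⟨rfl, rfl, rfl, rfl⟩ | ⟨rfl, rfl, rfl, rfl, -⟩ |
      ⟨rfl, rfl, rfl, rfl, -⟩ <;> simp)
    (by rcases hcase with ⟨rfl, rfl, rfl, rfl⟩ | ⟨rfl, rfl, rfl, rfl⟩ | ⟨rfl, rfl, rfl, rfl, -⟩ |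
      ⟨rfl, rfl, rfl, rfl, -⟩ <;> simp) h0 h1
  have hU' : U ∈ Submodule.span k {U, W} := Submodule.subset_span (Or.inl rfl)
  have hW' : W ∈ Submodule.span k {U, W} := Submodule.subset_span (Or.inr rfl)
  rcases hcase with ⟨rfl, rfl, rfl, rfl⟩ | ⟨rfl, rfl, rfl, rfl⟩ | ⟨rfl, rfl, rfl, rfl, -⟩ | ⟨rfl, rfl, rfl, rfl, -⟩
  all_goals simp only [map_one, map_zero, one_mul, zero_mul, zero_add, add_zero] at h0 h1
  · exact hW0 (hsep _ hmem 0 2 (by decide) W hW' ⟨isRoot_of_dvd h h0, isRoot_of_dvd h h2⟩)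
  · have := hsep _ hmem 0 1 (by decide) _ (add_mem hU' hW') ⟨isRoot_of_dvd h h0, isRoot_of_dvd h h1⟩
    exact one_ne_zero (hind 1 1 (by simpa using this)).1
  · exact hU0 (hsep _ hmem 0 3 (by decide) U hU' ⟨isRoot_of_dvd h h0, isRoot_of_dvd h h3⟩)
  · exact hW0 (hsep _ hmem 1 2 (by decide) W hW' ⟨isRoot_of_dvd h h1, isRoot_of_dvd h h2⟩)

/-- At a good point the eliminant has degree `r` and avoids the degenerate values. -/
theorem elim_good (h : Nums p d e) (hP : Function.Injective P) (hsep : Sep d e P) (σ : Row e ≃ Col e d) :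
    (elim σ P).natDegree = min (e 0) (d + 1 - e 3) ∧ (elim σ P).eval 0 ≠ 0 ∧ (elim σ P).eval 1 ≠ 0 := by
  refine ⟨?_, ?_, ?_⟩
  · obtain ⟨h1, h2⟩ := natDegree_elim_row σ P
    obtain ⟨h3, h4⟩ := natDegree_elim_col σ P
    rcases le_total (e 0) (d + 1 - e 3) with hle | hle
    · rw [min_eq_left hle]
      exact natDegree_eq_of_le_of_coeff_ne_zero h1 (h2 ▸ det_ne_zero h hP hsep σ
        (Or.inr (Or.inr (Or.inl ⟨rfl, rfl, rfl, rfl, hle⟩))))
    · rw [min_eq_right hle]
      exact natDegree_eq_of_le_of_coeff_ne_zero h3 (h4 ▸ det_ne_zero h hP hsep σ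
        (Or.inr (Or.inr (Or.inr ⟨rfl, rfl, rfl, rfl, hle⟩))))
  · rw [eval_elim]; exact det_ne_zero h hP hsep σ (Or.inl ⟨rfl, rfl, rfl, rfl⟩)
  · rw [eval_elim]; exact det_ne_zero h hP hsep σ (Or.inr (Or.inl ⟨rfl, rfl, rfl, rfl⟩))

/-- The members attached to a root of the eliminant. -/
def RootRel (d : ℕ) (e : Fin 4 → ℕ) (P : Fin 4 → k) (μ : k) (V : Submodule k k[X]) : Prop :=
  ∃ U W : k[X], U ≠ 0 ∧ W ≠ 0 ∧ U.natDegree ≤ d ∧ W.natDegree ≤ d ∧ (X - C (P 3)) ^ e 3 ∣ U ∧
    (X - C (P 2)) ^ e 2 ∣ W ∧ (X - C (P 1)) ^ e 1 ∣ U + W ∧ (X - C (P 0)) ^ e 0 ∣ C μ * U + W ∧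
    V = Submodule.span k {U, W}

theorem rootRel_members (h : Nums p d e) (hP : Function.Injective P) (σ : Row e ≃ Col e d) {μ : k}
    (hμ : μ ≠ 0) {y : Row e → k} (hy0 : y ≠ 0) (hy : (sqMat σ P μ 1 1 1).mulVec y = 0) :
    ∃ U W : k[X], U ≠ 0 ∧ W ≠ 0 ∧ U.natDegree ≤ d ∧ W.natDegree ≤ d ∧ (X - C (P 3)) ^ e 3 ∣ U ∧
      (X - C (P 2)) ^ e 2 ∣ W ∧ (X - C (P 1)) ^ e 1 ∣ U + W ∧ (X - C (P 0)) ^ e 0 ∣ C μ * U + W := by
  obtain ⟨U, W, hUd, hWd, h3, h2, h0, h1, hz, -, -⟩ := members h σ P μ 1 1 1 y hy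
  simp only [map_one, one_mul] at h0 h1
  have hm := h.mono; have hs := h.adm.2; have htop := h.top
  have hU0 : U ≠ 0 := fun hU0 => by
    subst hU0
    simp only [mul_zero, zero_add] at h0 h1
    exact hy0 (hz rfl (eq_zero_of_dvd hP {0, 1, 2} hWd (by intro i hi; fin_cases hi <;> assumption)
        (by simp only [Finset.sum_insert, Finset.mem_insert, Finset.mem_singleton, Finset.sum_singleton, Fin.reduceEq,
          or_self, not_false_eq_true]; omega)))
  have hW0 : W ≠ 0 := fun hW0 => by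
    subst hW0
    simp only [add_zero] at h0 h1
    rw [IsUnit.dvd_mul_left (isUnit_C.2 (IsUnit.mk0 _ hμ))] at h0
    exact hy0 (hz (eq_zero_of_dvd hP {0, 1, 3} hUd (by intro i hi; fin_cases hi <;> assumption)
        (by simp only [Finset.sum_insert, Finset.mem_insert, Finset.mem_singleton, Finset.sum_singleton, Fin.reduceEq,
          or_self, not_false_eq_true]; omega)) rfl)
  exact ⟨U, W, hU0, hW0, hUd, hWd, h3, h2, h1, h0⟩

/-- At a good point with separable eliminant the maps correspond to the roots. -/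
theorem card_ramMaps (h : Nums p d e) (hP : Function.Injective P) (hsep : Sep d e P) (σ : Row e ≃ Col e d)
    (hQ : (elim σ P).Separable) :
    (ramMaps d P e).Finite ∧ Nat.card (ramMaps d P e) = min (e 0) (d + 1 - e 3) := by
  classical
  obtain ⟨hdeg, hQ0, hQ1⟩ := elim_good h hP hsep σ
  set Q := elim σ P with hQdef
  have hQne : Q ≠ 0 := fun h0 => hQ0 (by rw [h0, eval_zero])
  -- a pencil for each root
  have hroot : ∀ μ ∈ Q.roots.toFinset, ∃ V, V ∈ ramMaps d P e ∧ RootRel d e P μ V := by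
    intro μ hμ
    rw [Multiset.mem_toFinset, mem_roots hQne] at hμ
    have hμ0 : μ ≠ 0 := fun h0 => hQ0 (by rw [h0] at hμ; exact hμ)
    have hdet : (sqMat σ P μ 1 1 1).det = 0 := by rw [← eval_elim]; exact hμ
    obtain ⟨y, hy0, hy⟩ := Matrix.exists_mulVec_eq_zero_iff.2 hdet
    obtain ⟨U, W, hU0, hW0, hUd, hWd, h3, h2, h1, h0⟩ := rootRel_members h hP σ hμ0 hy0 hy
    refine ⟨_, span_mem h hP hUd hWd hU0 hW0 h3 h2 (s := μ) (t := 1) (s' := 1) (t' := 1) (Or.inr one_ne_zero)
      (Or.inr one_ne_zero) (by simpa using h0) (by simpa using h1), U, W, hU0, hW0, hUd, hWd, h3, h2, h1, h0, rfl⟩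
  choose V hVmem hVrel using hroot
  let f : {μ // μ ∈ Q.roots.toFinset} → ramMaps d P e := fun μ => ⟨V μ.1 μ.2, hVmem μ.1 μ.2⟩
  have hf : Function.Bijective f := by
    constructor
    · rintro ⟨μ, hμ⟩ ⟨μ', hμ'⟩ heq
      have heq' : V μ hμ = V μ' hμ' := congrArg Subtype.val heq
      obtain ⟨U, W, hU0, hW0, hUd, hWd, h3, h2, h1, h0, hV⟩ := hVrel μ hμ
      obtain ⟨U', W', hU0', hW0', hUd', hWd', h3', h2', h1', h0', hV'⟩ := hVrel μ' hμ'
      rw [← heq', hV] at hV'
      have hsepV := hsep _ (hV ▸ hVmem μ hμ)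
      have hWP3 : W.eval (P 3) ≠ 0 := fun h' => hW0 (hsepV 3 2 (by decide) W (Submodule.subset_span (Or.inr rfl))
        ⟨h', isRoot_of_dvd h h2⟩)
      have hUP2 : U.eval (P 2) ≠ 0 := fun h' => hU0 (hsepV 3 2 (by decide) U (Submodule.subset_span (Or.inl rfl))
        ⟨isRoot_of_dvd h h3, h'⟩)
      have hUP1 : U.eval (P 1) ≠ 0 := fun h' => hU0 (hsepV 3 1 (by decide) U (Submodule.subset_span (Or.inl rfl))
        ⟨isRoot_of_dvd h h3, h'⟩)
      have hUP0 : U.eval (P 0) ≠ 0 := fun h' => hU0 (hsepV 3 0 (by decide) U (Submodule.subset_span (Or.inl rfl))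
        ⟨isRoot_of_dvd h h3, h'⟩)
      have hU' : U' ∈ Submodule.span k {U, W} := hV'.symm ▸ Submodule.subset_span (Or.inl rfl)
      have hW' : W' ∈ Submodule.span k {U, W} := hV'.symm ▸ Submodule.subset_span (Or.inr rfl)
      obtain ⟨a, b, hab⟩ := Submodule.mem_span_pair.1 hU'
      obtain ⟨a', b', hab'⟩ := Submodule.mem_span_pair.1 hW'
      have eU3 : U.eval (P 3) = 0 := isRoot_of_dvd h h3
      have eW2 : W.eval (P 2) = 0 := isRoot_of_dvd h h2
      have hb : b = 0 := by
        have := congrArg (eval (P 3)) hab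
        simp only [eval_add, eval_smul, smul_eq_mul, eU3, mul_zero, zero_add,
          show U'.eval (P 3) = 0 from isRoot_of_dvd h h3', mul_eq_zero, hWP3, or_false] at this
        exact this
      have ha' : a' = 0 := by
        have := congrArg (eval (P 2)) hab'
        simp only [eval_add, eval_smul, smul_eq_mul, eW2, mul_zero, add_zero,
          show W'.eval (P 2) = 0 from isRoot_of_dvd h h2', mul_eq_zero, hUP2, or_false] at this
        exact this
      subst hb ha'
      rw [zero_smul, add_zero] at hab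
      rw [zero_smul, zero_add] at hab'
      subst hab hab'
      have ha0 : a ≠ 0 := fun h' => hU0' (by simp [h'])
      have e1 : U.eval (P 1) + W.eval (P 1) = 0 := by simpa [IsRoot] using isRoot_of_dvd h h1
      have e1' : a * U.eval (P 1) + b' * W.eval (P 1) = 0 := by
        simpa [IsRoot, eval_smul, smul_eq_mul] using isRoot_of_dvd h h1'
      have hab'' : a = b' := sub_eq_zero.1 ((mul_eq_zero.1 (show (a - b') * U.eval (P 1) = 0 by
        linear_combination e1' - b' * e1)).resolve_right hUP1)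
      subst hab''
      have e0 : μ * U.eval (P 0) + W.eval (P 0) = 0 := by simpa [IsRoot] using isRoot_of_dvd h h0
      have e0' : μ' * (a * U.eval (P 0)) + a * W.eval (P 0) = 0 := by
        simpa [IsRoot, eval_smul, smul_eq_mul, mul_left_comm] using isRoot_of_dvd h h0'
      exact Subtype.ext (sub_eq_zero.1 ((mul_eq_zero.1 (show (μ - μ') * (a * U.eval (P 0)) = 0 by
        linear_combination a * e0 - e0')).resolve_right (mul_ne_zero ha0 hUP0)))
    · rintro ⟨V₀, hV₀⟩
      have hV₀' := hV₀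
      obtain ⟨⟨hVle, hV2, -, -⟩, -, hram⟩ := hV₀'
      have hmem : ∀ i, ∃ S ∈ V₀, S ≠ 0 ∧ (X - C (P i)) ^ e i ∣ S ∧ S.natDegree ≤ d := fun i => by
        obtain ⟨S, hS, hS0, hSe⟩ := (hram i).1
        exact ⟨S, hS, hS0, (le_rootMultiplicity_iff hS0).1 hSe, natDegree_le_of_degree_le (mem_degreeLE.1 (hVle hS))⟩
      obtain ⟨U, hUV, hU0, h3, hUd⟩ := hmem 3
      obtain ⟨W, hWV, hW0, h2, hWd⟩ := hmem 2
      obtain ⟨S₁, hS₁V, hS₁0, h1, hS₁d⟩ := hmem 1
      obtain ⟨S₀, hS₀V, hS₀0, h0, hS₀d⟩ := hmem 0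
      haveI : Module.Finite k V₀ := Module.finite_of_finrank_eq_succ hV2
      have hsp : V₀ = Submodule.span k {U, W} := by
        refine (Submodule.eq_of_le_of_finrank_eq (Submodule.span_le.2 (by rintro _ (rfl | rfl) <;> assumption)) ?_).symm
        have hli : LinearIndependent k ![U, W] := LinearIndependent.pair_iff.2 fun x y hxy =>
          indep_mem h hP hUd hWd hU0 hW0 h3 h2 x y (by simpa [smul_eq_C_mul] using hxy)
        have := finrank_span_eq_card hli
        rw [Matrix.range_cons_cons_empty, Fintype.card_fin] at this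
        rw [this, hV2]
      subst hsp
      have hsepV := hsep _ hV₀
      obtain ⟨α, β, rfl⟩ := Submodule.mem_span_pair.1 hS₁V
      obtain ⟨α', β', rfl⟩ := Submodule.mem_span_pair.1 hS₀V
      have hα : α ≠ 0 := fun h' => by
        subst h'
        exact hS₁0 (hsepV 1 2 (by decide) _ hS₁V ⟨isRoot_of_dvd h h1, by
          simp [IsRoot, show W.eval (P 2) = 0 from isRoot_of_dvd h h2]⟩)
      have hβ : β ≠ 0 := fun h' => by
        subst h'
        exact hS₁0 (hsepV 1 3 (by decide) _ hS₁V ⟨isRoot_of_dvd h h1, by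
          simp [IsRoot, show U.eval (P 3) = 0 from isRoot_of_dvd h h3]⟩)
      have hβ' : β' ≠ 0 := fun h' => by
        subst h'
        exact hS₀0 (hsepV 0 3 (by decide) _ hS₀V ⟨isRoot_of_dvd h h0, by
          simp [IsRoot, show U.eval (P 3) = 0 from isRoot_of_dvd h h3]⟩)
      set μ := α' * β / (α * β') with hμdef
      set U₁ := α • U with hU₁
      set W₁ := β • W with hW₁
      have h3' : (X - C (P 3)) ^ e 3 ∣ U₁ := by rw [hU₁, smul_eq_C_mul]; exact h3.mul_left _
      have h2' : (X - C (P 2)) ^ e 2 ∣ W₁ := by rw [hW₁, smul_eq_C_mul]; exact h2.mul_left _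
      have h0' : (X - C (P 0)) ^ e 0 ∣ C μ * U₁ + W₁ := by
        have : C μ * U₁ + W₁ = C (β / β') * (α' • U + β' • W) := by
          simp only [hU₁, hW₁, smul_eq_C_mul, mul_add, ← mul_assoc, ← map_mul, hμdef]
          congr 3 <;> field_simp
        rw [this]
        exact h0.mul_left _
      have hU₁d : U₁.natDegree ≤ d := (natDegree_smul_le _ _).trans hUd
      have hW₁d : W₁.natDegree ≤ d := (natDegree_smul_le _ _).trans hWd
      obtain ⟨y, hyU, hyW⟩ := exists_vec h σ P hU₁d hW₁d h3' h2'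
      have hy : (sqMat σ P μ 1 1 1).mulVec y = 0 := by
        rw [mulVec_eq_zero_iff, ← hyU, ← hyW, map_one, one_mul, one_mul]
        exact ⟨h0', h1⟩
      have hy0 : y ≠ 0 := fun h' => smul_ne_zero hα hU0 (show U₁ = 0 by
        rw [hyU, h']; simp [memU, lowPart])
      have hμroot : μ ∈ Q.roots.toFinset := by
        rw [Multiset.mem_toFinset, mem_roots hQne, IsRoot, eval_elim]
        exact Matrix.exists_mulVec_eq_zero_iff.1 ⟨y, hy0, hy⟩
      refine ⟨⟨μ, hμroot⟩, Subtype.ext ?_⟩
      show V μ hμroot = Submodule.span k {U, W}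
      obtain ⟨U', W', hU0', hW0', hUd', hWd', h3'', h2'', h1'', h0'', hV'⟩ := hVrel μ hμroot
      obtain ⟨z, hzU, hzW⟩ := exists_vec h σ P hUd' hWd' h3'' h2''
      have hz : (sqMat σ P μ 1 1 1).mulVec z = 0 := by
        rw [mulVec_eq_zero_iff, ← hzU, ← hzW, map_one, one_mul, one_mul]
        exact ⟨h0'', h1''⟩
      obtain ⟨c, rfl⟩ : ∃ c : k, z = c • y := by
        by_contra hne
        push_neg at hne
        have hN : ((sqMat σ (fun i => C (P i)) (X : k[X]) 1 1 1).map (eval μ)) = sqMat σ P μ 1 1 1 := by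
          rw [← coe_evalRingHom, map_sqMat]
          simp [Function.comp_def]
        have hd0 := derivative_det_eval_eq_zero (sqMat σ (fun i => C (P i)) (X : k[X]) 1 1 1) μ y z hy0
          (by rw [hN, hy]) (by rw [hN, hz]) hne
        obtain ⟨a, b, hab⟩ := hQ
        have := congrArg (eval μ) hab
        rw [Multiset.mem_toFinset, mem_roots hQne, IsRoot] at hμroot
        simp only [eval_add, eval_mul, eval_one, hμroot, mul_zero, zero_add,
          show (derivative Q).eval μ = 0 from hd0, zero_ne_one] at this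
      have hUc : U' = C c * U₁ := by
        rw [hzU, hyU]
        exact mul_smul_lowPart c _ _ _
      have hWc : W' = C c * W₁ := by
        rw [hzW, hyW]
        exact mul_smul_lowPart c _ _ _
      have hc : c ≠ 0 := fun h' => hU0' (by rw [hUc, h']; simp)
      rw [hV', hUc, hWc, hU₁, hW₁, ← smul_eq_C_mul, ← smul_eq_C_mul, smul_smul, smul_smul,
        Submodule.span_insert, Submodule.span_singleton_smul_eq (IsUnit.mk0 _ (mul_ne_zero hc hα)),
        Submodule.span_singleton_smul_eq (IsUnit.mk0 _ (mul_ne_zero hc hβ)), ← Submodule.span_insert]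
  haveI : Finite (ramMaps d P e) := Finite.of_surjective f hf.2
  refine ⟨Set.toFinite _, ?_⟩
  rw [← Nat.card_congr (Equiv.ofBijective f hf), Nat.card_eq_fintype_card, Fintype.card_coe,
    Multiset.toFinset_card_of_nodup (nodup_roots hQ), IsAlgClosed.card_roots_eq_natDegree, hdeg]

end Good

section Generic

variable (k : Type u) [Field k]

/-- The coordinate ring of the four points. -/
abbrev R4 : Type u := MvPolynomial (Fin 4) k

theorem natDegree_Dc_le {K' : Type u} [Field K'] [Algebra k K'] (D : Derivation k K' K') (q : K'[X]) :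
    (Dc D q).natDegree ≤ q.natDegree :=
  natDegree_le_iff_coeff_eq_zero.2 fun j hj => by
    rw [coeff_Dc, coeff_eq_zero_of_natDegree_lt hj, map_zero]

theorem dvd_move {K' : Type u} [Field K'] [Algebra k K'] (D : Derivation k K' K') {a : K'} {m : ℕ} {T : K'[X]}
    (h : (X - C a) ^ m ∣ T) : (X - C a) ^ m ∣ Dc D T + C (D a) * derivative T := by
  obtain ⟨u, rfl⟩ := h
  refine ⟨Dc D u + C (D a) * derivative u, ?_⟩
  rw [Dc_mul, Dc_pow_sub, derivative_mul, derivative_pow, derivative_sub, derivative_X, derivative_C, map_mul,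
    map_natCast]
  ring

variable (L K : Type u) [Field L] [Field K] [Algebra (R4 k) L] [IsFractionRing (R4 k) L] [Algebra k L]
  [IsScalarTower k (R4 k) L] [Algebra L K] [Algebra (R4 k) K] [IsScalarTower (R4 k) L K] [Algebra k K]
  [IsScalarTower k (R4 k) K] [Algebra.IsSeparable L K]

/-- The partial derivative, extended. -/
def DK (j : Fin 4) : Derivation k K K :=
  haveI : Algebra.FormallyEtale (R4 k) L := Algebra.FormallyEtale.of_isLocalization (nonZeroDivisors (R4 k))
  haveI : Algebra.FormallyEtale L K := Algebra.FormallyEtale.of_isSeparable _ _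
  haveI : Algebra.FormallyEtale (R4 k) K := Algebra.FormallyEtale.comp (R4 k) L K
  (((((Algebra.linearMap (R4 k) K).compDer
    (MvPolynomial.pderiv j)).liftKaehlerDifferential).liftBaseChange K).comp
    (KaehlerDifferential.tensorKaehlerEquivOfFormallyEtale k (R4 k) K).symm.toLinearMap).compDer
      (KaehlerDifferential.D k K)

theorem DK_X (i j : Fin 4) :
    DK k L K j (algebraMap (R4 k) K (MvPolynomial.X i)) = if i = j then 1 else 0 := by
  haveI : Algebra.FormallyEtale (R4 k) L := Algebra.FormallyEtale.of_isLocalization (nonZeroDivisors (R4 k))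
  haveI : Algebra.FormallyEtale L K := Algebra.FormallyEtale.of_isSeparable _ _
  haveI : Algebra.FormallyEtale (R4 k) K := Algebra.FormallyEtale.comp (R4 k) L K
  show (((Algebra.linearMap (R4 k) K).compDer (MvPolynomial.pderiv j)).liftKaehlerDifferential.liftBaseChange K)
    ((KaehlerDifferential.tensorKaehlerEquivOfFormallyEtale k (R4 k) K).symm
      (KaehlerDifferential.D k K (algebraMap (R4 k) K (MvPolynomial.X i)))) = _
  rw [KaehlerDifferential.tensorKaehlerEquivOfFormallyEtale_symm_D_algebraMap, LinearMap.liftBaseChange_tmul, one_smul,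
    Derivation.liftKaehlerDifferential_comp_D]
  show algebraMap (R4 k) K (MvPolynomial.pderiv j (MvPolynomial.X i)) = _
  rw [MvPolynomial.pderiv_X, Pi.single_apply]
  split_ifs with h <;> simp_all

variable {k} [IsAlgClosed k] [CharP k p] [IsSepClosed K]

include L K in
/-- The discriminant argument: a polynomial outside whose zeros the eliminant is separable. -/
theorem exists_separable (h : Nums p d e) (σ : Row e ≃ Col e d) {P₀ : Fin 4 → k}
    (hP₀ : Function.Injective P₀) (hsep₀ : Sep d e P₀) :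
    ∃ Ψ : MvPolynomial (Fin 4) k, Ψ ≠ 0 ∧ ∀ P : Fin 4 → k, MvPolynomial.eval P Ψ ≠ 0 →
      (elim σ P).Separable := by
  classical
  obtain ⟨hdeg, hQ0, hQ1⟩ := elim_good h hP₀ hsep₀ σ
  let ι := algebraMap (R4 k) L
  let QR : (R4 k)[X] := elim σ fun i => MvPolynomial.X i
  let QL : L[X] := elim σ fun i => ι (MvPolynomial.X i)
  have hQRL : QR.map ι = QL := map_elim σ ι _
  have hQRev : ∀ P : Fin 4 → k, QR.map (MvPolynomial.eval P) = elim σ P := fun P => by
    rw [map_elim]; simp
  have hι : Function.Injective ι := IsFractionRing.injective (R4 k) L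
  haveI hK : CharP K p := charP_of_injective_algebraMap (algebraMap k K).injective p
  haveI hL : CharP L p := charP_of_injective_algebraMap (algebraMap k L).injective p
  have hQLne : ∀ a : R4 k, MvPolynomial.eval P₀ a = 0 ∨ MvPolynomial.eval P₀ a = 1 → True := fun _ _ => trivial
  have hnz : ∀ a : k, (elim σ P₀).eval a ≠ 0 → QL.eval (algebraMap k L a) ≠ 0 := by
    intro a ha h0
    rw [← hQRL, IsScalarTower.algebraMap_apply k (R4 k) L, eval_map_apply, map_eq_zero_iff _ hι] at h0
    refine ha ?_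
    rw [← hQRev P₀]
    have := congrArg (MvPolynomial.eval P₀) h0
    rw [map_zero, ← eval_map_apply] at this
    simpa using this
  have hQLd : QL.natDegree ≤ d := by
    have := h.adm.1 3
    exact (natDegree_elim_col σ fun i => ι (MvPolynomial.X i)).1.trans (by omega)
  have hQL0 : QL ≠ 0 := fun h0 => hnz 0 hQ0 (by rw [h0, eval_zero])
  suffices hcop : IsCoprime QL (derivative QL) by
    obtain ⟨a, b, hab⟩ := hcop
    obtain ⟨⟨sa, hsa⟩, ha⟩ := IsLocalization.integerNormalization_map_to_map (nonZeroDivisors (R4 k)) a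
    obtain ⟨⟨sb, hsb⟩, hb⟩ := IsLocalization.integerNormalization_map_to_map (nonZeroDivisors (R4 k)) b
    set A := IsLocalization.integerNormalization (nonZeroDivisors (R4 k)) a
    set B := IsLocalization.integerNormalization (nonZeroDivisors (R4 k)) b
    have hid : C sb * A * QR + C sa * B * derivative QR = C (sa * sb) := by
      apply Polynomial.map_injective ι hι
      simp only [Polynomial.map_add, Polynomial.map_mul, Polynomial.map_C, ← derivative_map, hQRL]
      rw [show A.map ι = C (ι sa) * a by rw [ha, Algebra.smul_def]; rfl,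
        show B.map ι = C (ι sb) * b by rw [hb, Algebra.smul_def]; rfl, map_mul, map_mul]
      linear_combination (C (ι sa) * C (ι sb)) * hab
    refine ⟨sa * sb, mul_ne_zero (nonZeroDivisors.ne_zero hsa) (nonZeroDivisors.ne_zero hsb), fun P hP => ?_⟩
    have := congrArg (Polynomial.map (MvPolynomial.eval P)) hid
    simp only [Polynomial.map_add, Polynomial.map_mul, Polynomial.map_C, ← derivative_map, hQRev] at this
    set c := MvPolynomial.eval P (sa * sb)
    refine ⟨C c⁻¹ * (C (MvPolynomial.eval P sb) * A.map (MvPolynomial.eval P)),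
      C c⁻¹ * (C (MvPolynomial.eval P sa) * B.map (MvPolynomial.eval P)), ?_⟩
    calc _ = C c⁻¹ * C c := by rw [← this]; ring
      _ = 1 := by rw [← map_mul, inv_mul_cancel₀ hP, map_one]
  refine isCoprime_of_prime_dvd (fun h0 => hQL0 h0.1) fun π hπ hπQ hπD => ?_
  have hπd : π.natDegree ≤ d := (natDegree_le_of_dvd hπQ hQL0).trans hQLd
  have hπ1 : 1 ≤ π.natDegree := hπ.irreducible.natDegree_pos
  have hπsep : π.Separable := by
    rw [separable_iff_derivative_ne_zero hπ.irreducible]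
    intro h0
    have := congrArg (fun q => q.coeff (π.natDegree - 1)) h0
    simp only [coeff_derivative, coeff_zero, mul_eq_zero] at this
    rw [Nat.sub_add_cancel hπ1] at this
    rcases this with h' | h'
    · exact hπ.ne_zero (leadingCoeff_eq_zero.1 h')
    · exact natCast_ne (K := L) (p := p) h.small hπd (Nat.zero_le d) (by omega) (by
        rw [Nat.cast_zero, ← h']
        have : ((π.natDegree - 1 : ℕ) : L) + 1 = (π.natDegree : L) := by
          rw [← Nat.cast_add_one, Nat.sub_add_cancel hπ1]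
        exact this.symm)
  obtain ⟨μ, hμ⟩ := IsSepClosed.exists_aeval_eq_zero (K := K) π
    (fun h0 => by have := natDegree_eq_zero_iff_degree_le_zero.2 h0.le; omega) hπsep
  let PK : Fin 4 → K := fun i => algebraMap (R4 k) K (MvPolynomial.X i)
  have hQK : QL.map (algebraMap L K) = elim σ PK := by
    rw [map_elim]
    congr 1
    funext i
    exact (IsScalarTower.algebraMap_apply (R4 k) L K _).symm
  have hrootK : ∀ q : L[X], π ∣ q → (q.map (algebraMap L K)).eval μ = 0 := fun q hq => by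
    rw [eval_map, ← aeval_def]
    obtain ⟨r, rfl⟩ := hq
    rw [map_mul, hμ, zero_mul]
  have hμQ : (elim σ PK).eval μ = 0 := hQK ▸ hrootK _ hπQ
  have hμD : (derivative (elim σ PK)).eval μ = 0 := by
    rw [← hQK, derivative_map]; exact hrootK _ hπD
  have hμ0 : μ ≠ 0 := by
    rintro rfl
    refine hnz 0 hQ0 ?_
    have := hrootK _ hπQ
    rw [← map_zero (algebraMap L K), eval_map_apply] at this
    rw [map_zero]
    exact (algebraMap L K).injective this
  have hPKinj : Function.Injective PK := by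
    intro i j hij
    have h1 := (algebraMap L K).injective (a₁ := ι (MvPolynomial.X i)) (a₂ := ι (MvPolynomial.X j)) (by
      rw [← IsScalarTower.algebraMap_apply, ← IsScalarTower.algebraMap_apply]; exact hij)
    exact MvPolynomial.X_injective (hι h1)
  obtain ⟨y, hy0, hy⟩ := Matrix.exists_mulVec_eq_zero_iff.2 (show (sqMat σ PK μ 1 1 1).det = 0 by
    rw [← eval_elim]; exact hμQ)
  obtain ⟨U, W, hUd, hWd, h3, h2, h0, h1, hz0, hUy, hWy⟩ := members h σ PK μ 1 1 1 y hy
  simp only [map_one, one_mul] at h0 h1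
  have hm := h.mono; have hs := h.adm.2; have htop := h.top
  have hU0 : U ≠ 0 := fun hU0 => by
    have h0' : (X - C (PK 0)) ^ e 0 ∣ W := by simpa [hU0] using h0
    have h1' : (X - C (PK 1)) ^ e 1 ∣ W := by simpa [hU0] using h1
    exact hy0 (hz0 hU0 (eq_zero_of_dvd hPKinj {0, 1, 2} hWd (by intro i hi; fin_cases hi <;> assumption)
        (by simp only [Finset.sum_insert, Finset.mem_insert, Finset.mem_singleton, Finset.sum_singleton, Fin.reduceEq,
          or_self, not_false_eq_true]; omega)))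
  have hW0 : W ≠ 0 := fun hW0 => by
    have h0' : (X - C (PK 0)) ^ e 0 ∣ U := by
      rw [hW0, add_zero] at h0
      exact (IsUnit.dvd_mul_left (isUnit_C.2 (IsUnit.mk0 _ hμ0))).1 h0
    have h1' : (X - C (PK 1)) ^ e 1 ∣ U := by simpa [hW0] using h1
    exact hy0 (hz0 (eq_zero_of_dvd hPKinj {0, 1, 3} hUd (by intro i hi; fin_cases hi <;> assumption)
        (by simp only [Finset.sum_insert, Finset.mem_insert, Finset.mem_singleton, Finset.sum_singleton, Fin.reduceEq,
          or_self, not_false_eq_true]; omega)) hW0)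
  have hind := indep_mem h hPKinj hUd hWd hU0 hW0 h3 h2
  have hdegLE : ∀ q : K[X], q.natDegree ≤ d → q ∈ degreeLE K (d : ℕ) := fun q hq =>
    mem_degreeLE.2 (natDegree_le_iff_degree_le.1 hq)
  have hmove : ∀ j : Fin 4, ∃ v ∈ tanSpace d e PK U W μ, v.2.2 = Pi.single j 1 := by
    intro j
    let D := DK k L K j
    refine ⟨((⟨Dc D U, hdegLE _ ((natDegree_Dc_le k D U).trans hUd)⟩,
      ⟨Dc D W, hdegLE _ ((natDegree_Dc_le k D W).trans hWd)⟩), (D μ, fun i => D (PK i))), ?_, ?_⟩
    · refine ⟨dvd_move k D h3, dvd_move k D h2, ?_, ?_⟩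
      · have := dvd_move k D h1
        rwa [map_add (Dc D)] at this
      · have := dvd_move k D h0
        rwa [map_add (Dc D), Dc_mul, Dc_C] at this
    · funext i
      show D (PK i) = _
      rw [Pi.single_apply]
      exact DK_X k L K i j
  let N : Matrix (Row e) (Row e) K[X] := sqMat σ (fun i => C (PK i)) X 1 1 1
  have hN : N.map (eval μ) = sqMat σ PK μ 1 1 1 := by
    rw [← coe_evalRingHom, map_sqMat]
    simp [Function.comp_def]
  have hN' : (N.map fun q => (derivative q).eval μ) = sqMat σ PK 1 0 0 0 := by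
    ext1 r c
    rcases r with l | l <;> rcases hc : σ c with j | j <;>
      simp only [N, Matrix.map_apply, sqMat, Matrix.submatrix_apply, id_eq, mat, Matrix.of_apply, hc, taylor_C_coeff,
        one_mul, zero_mul, derivative_mul, derivative_X, derivative_C, mul_zero, add_zero, eval_C, eval_zero]
  obtain ⟨z, c, hzc, hzeq⟩ := exists_second N μ hμD y hy0 (by rw [hN, hy])
  rw [hN, hN'] at hzeq
  set U' := memU e d PK ((z ∘ σ.symm) ∘ Sum.inl) with hU'
  set W' := memV e d PK ((z ∘ σ.symm) ∘ Sum.inr) with hW'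
  have hc0 : (X - C (PK 0)) ^ e 0 ∣ C c * U + C μ * U' + W' ∧ (X - C (PK 1)) ^ e 1 ∣ U' + W' := by
    simp only [sqMat, Matrix.submatrix_mulVec_equiv] at hzeq
    constructor <;> rw [GrothLib.RamFin10.pow_dvd_iff_taylor] <;> intro l hl
    · have := congrFun hzeq (Sum.inl ⟨l, hl⟩)
      simp only [Pi.add_apply, Pi.smul_apply, Pi.zero_apply, smul_eq_mul, Function.comp_apply, id_eq,
        (mulVec_mat e d PK _ _ _ _ _).1 ⟨l, hl⟩] at this
      rw [← hUy, ← hU', ← hW', map_one, map_zero, one_mul, one_mul, zero_mul, add_zero] at this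
      rw [map_add, map_add, coeff_add, coeff_add, taylor_mul, taylor_C, coeff_C_mul]
      rw [map_add, coeff_add] at this
      linear_combination this
    · have := congrFun hzeq (Sum.inr ⟨l, hl⟩)
      simp only [Pi.add_apply, Pi.smul_apply, Pi.zero_apply, smul_eq_mul, Function.comp_apply, id_eq,
        (mulVec_mat e d PK _ _ _ _ _).2 ⟨l, hl⟩] at this
      rw [← hU', ← hW', map_one, map_zero, one_mul, one_mul, zero_mul, zero_mul, add_zero, map_zero,
        coeff_zero, mul_zero, add_zero] at this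
      exact this
  obtain ⟨a1, a2, a3⟩ := memU_spec (d := d) PK ((z ∘ σ.symm) ∘ Sum.inl) htop
  obtain ⟨b1, b2, b3⟩ := memV_spec (d := d) PK ((z ∘ σ.symm) ∘ Sum.inr) (hm.2.2.trans htop)
  obtain ⟨t, ht1, ht2, ht3⟩ := tan_vertical (p := p) h.small h.one_le hPKinj h.adm.1 h.sum_sub hUd hWd hind hμ0
    h3 h2 h1 h0 hmove
    (v := ((⟨U', hdegLE _ a2⟩, ⟨W', hdegLE _ b2⟩), (c, 0))) (by
      refine ⟨?_, ?_, ?_, ?_⟩ <;> simp only [Pi.zero_apply, map_zero, zero_mul, add_zero]
      · exact a1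
      · exact b1
      · exact hc0.2
      · exact hc0.1) rfl
  rcases hzc with ⟨-, hne⟩ | rfl
  · refine hne t (funext fun r => ?_)
    have hdiff : z - t • y = 0 := by
      have hlin : ∀ (m : ℕ) (b : K) (i : ℕ) (x x' : Fin m → K),
          (X - C b) ^ i * lowPart (x - t • x') = (X - C b) ^ i * lowPart x - C t * ((X - C b) ^ i * lowPart x') := by
        intro m b i x x'
        simp only [lowPart, Pi.sub_apply, Pi.smul_apply, smul_eq_mul, map_sub, map_mul, sub_mul, Finset.sum_sub_distrib,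
          mul_sub, Finset.mul_sum]
        congr 1
        exact Finset.sum_congr rfl fun j _ => by ring
      have hU'' : memU e d PK (((z - t • y) ∘ σ.symm) ∘ Sum.inl) = 0 := by
        have : U' - C t * U = 0 := sub_eq_zero.2 ht1
        rw [hU', hUy] at this
        rw [← this]
        exact hlin _ _ _ _ _
      have hW'' : memV e d PK (((z - t • y) ∘ σ.symm) ∘ Sum.inr) = 0 := by
        have : W' - C t * W = 0 := sub_eq_zero.2 ht2
        rw [hW', hWy] at this
        rw [← this]
        exact hlin _ _ _ _ _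
      funext r
      have hcol : ∀ c, (z - t • y) (σ.symm c) = 0 := by
        rintro (j | j)
        · exact congrFun ((memU_spec (d := d) PK _ htop).2.2 hU'') j
        · exact congrFun ((memV_spec (d := d) PK _ (hm.2.2.trans htop)).2.2 hW'') j
      simpa using hcol (σ r)
    exact congrFun (sub_eq_zero.1 hdiff) r
  · exact one_ne_zero ht3

end Generic

section Sorted

/-- The count for indices in increasing order. -/
theorem hasGenericCount_sorted {k : Type u} [Field k] [IsAlgClosed k] [CharP k p] (h : Nums p d e) (he : Admissible1 p d e) :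
    HasGenericCount (k := k) d e (min (e 0) (d + 1 - e 3)) := by
  classical
  obtain ⟨σ⟩ := h.equiv
  obtain ⟨Φ, hΦ, hgood⟩ := exists_good (k := k) he
  let Δ : MvPolynomial (Fin 4) k := ∏ x : {x : Fin 4 × Fin 4 // x.1 ≠ x.2},
    (MvPolynomial.X x.1.1 - MvPolynomial.X x.1.2)
  have hΔ : Δ ≠ 0 := Finset.prod_ne_zero_iff.2 fun x _ => sub_ne_zero.2 fun hx => x.2 (MvPolynomial.X_injective hx)
  have hinj : ∀ P : Fin 4 → k, MvPolynomial.eval P Δ ≠ 0 → Function.Injective P := fun P hP i j hij => by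
    by_contra hne
    simp only [Δ, map_prod, Finset.prod_ne_zero_iff] at hP
    exact hP ⟨(i, j), hne⟩ (Finset.mem_univ _) (by simp [hij])
  obtain ⟨P₀, hP₀⟩ : ∃ P₀ : Fin 4 → k, MvPolynomial.eval P₀ (Δ * Φ) ≠ 0 := by
    by_contra hall
    push_neg at hall
    exact mul_ne_zero hΔ hΦ (MvPolynomial.funext fun x => by rw [hall x, map_zero])
  rw [map_mul, mul_ne_zero_iff] at hP₀
  haveI : IsScalarTower k (R4 k) (SeparableClosure (FractionRing (R4 k))) := IsScalarTower.of_algebraMap_eq fun x => by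
    rw [IsScalarTower.algebraMap_apply k (FractionRing (R4 k)) (SeparableClosure (FractionRing (R4 k))),
      IsScalarTower.algebraMap_apply k (R4 k) (FractionRing (R4 k)),
      ← IsScalarTower.algebraMap_apply (R4 k) (FractionRing (R4 k)) (SeparableClosure (FractionRing (R4 k)))]
  obtain ⟨Ψ, hΨ, hΨP⟩ := exists_separable (FractionRing (R4 k)) (SeparableClosure (FractionRing (R4 k))) h σ
    (hinj P₀ hP₀.1) (hgood P₀ hP₀.2).2
  refine ⟨Δ * Φ * Ψ, mul_ne_zero (mul_ne_zero hΔ hΦ) hΨ, fun P hP => ?_⟩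
  rw [map_mul, map_mul, mul_ne_zero_iff, mul_ne_zero_iff] at hP
  exact card_ramMaps h (hinj P hP.1.1) (hgood P hP.1.2).2 σ (hΨP P hP.2)

end Sorted

section Assembly

variable {k : Type u} [Field k] [IsAlgClosed k] [CharP k p]

theorem hasGenericCount_comp {n : ℕ} (π : Equiv.Perm (Fin n)) {e : Fin n → ℕ} {m : ℕ}
    (h : HasGenericCount (k := k) d (e ∘ π) m) : HasGenericCount (k := k) d e m := by
  obtain ⟨Φ, hΦ, hc⟩ := h
  refine ⟨MvPolynomial.rename π Φ, fun h0 => hΦ (MvPolynomial.rename_injective _ π.injective (by rw [h0, map_zero])),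
    fun P hP => ?_⟩
  rw [MvPolynomial.eval_rename] at hP
  have hset : ramMaps d (P ∘ π) (e ∘ π) = ramMaps d P e := by
    ext V
    simp only [ramMaps, Set.mem_setOf_eq, Function.comp_apply]
    exact and_congr_right fun _ => and_congr_right fun _ =>
      π.forall_congr_right (q := fun i => HasRamIdx V (P i) (e i))
  rw [← hset]
  exact hc _ hP

theorem hasGenericCount_zero {n : ℕ} {e : Fin n → ℕ} (i : Fin n) (hi : d < e i) :
    HasGenericCount (k := k) d e 0 := by
  refine ⟨1, one_ne_zero, fun P _ => ?_⟩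
  have : ramMaps d P e = ∅ := Set.eq_empty_iff_forall_notMem.2 fun V hV => by
    obtain ⟨⟨hVle, -⟩, -, hram⟩ := hV
    obtain ⟨s, hs, hs0, hse⟩ := (hram i).1
    have h1 := natDegree_le_of_dvd ((le_rootMultiplicity_iff hs0).1 hse) hs0
    rw [natDegree_pow, natDegree_X_sub_C, mul_one] at h1
    have := natDegree_le_of_degree_le (mem_degreeLE.1 (hVle hs))
    omega
  rw [this]
  simp

/-- The number in the four-point formula. -/
def fourR (d : ℕ) (e : Fin 4 → ℕ) : ℕ :=
  Finset.univ.inf' Finset.univ_nonempty (fun i => min (e i) (d + 1 - e i))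

theorem fourR_comp (π : Equiv.Perm (Fin 4)) (e : Fin 4 → ℕ) : fourR d (e ∘ π) = fourR d e := by
  unfold fourR
  refine le_antisymm (Finset.le_inf' _ _ fun i _ => ?_) (Finset.le_inf' _ _ fun i _ => ?_)
  · have := Finset.inf'_le (fun i => min ((e ∘ π) i) (d + 1 - (e ∘ π) i)) (Finset.mem_univ (π.symm i))
    simpa using this
  · exact Finset.inf'_le (fun i => min (e i) (d + 1 - e i)) (Finset.mem_univ (π i))

theorem fourR_eq {e : Fin 4 → ℕ} (hm : Monotone e) : fourR d e = min (e 0) (d + 1 - e 3) := by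
  unfold fourR
  refine le_antisymm (le_min ?_ ?_) (Finset.le_inf' _ _ fun i _ => ?_)
  · exact (Finset.inf'_le _ (Finset.mem_univ (0 : Fin 4))).trans (min_le_left _ _)
  · exact (Finset.inf'_le _ (Finset.mem_univ (3 : Fin 4))).trans (min_le_right _ _)
  · have h1 := hm (Fin.zero_le i)
    have h2 := hm (Fin.le_last i)
    have : e (Fin.last 3) = e 3 := rfl
    omega

theorem monotone_sort (e : Fin 4 → ℕ) : ∃ π : Equiv.Perm (Fin 4), Monotone (e ∘ π) :=
  ⟨Tuple.sort e, Tuple.monotone_sort e⟩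

theorem sum_comp {e : Fin 4 → ℕ} (he : Admissible1 p d e) (π : Equiv.Perm (Fin 4)) :
    Admissible1 p d (e ∘ π) := by
  refine ⟨fun i => he.1 (π i), ?_⟩
  rw [show ∑ i, (e ∘ π) i = ∑ i, e i from Equiv.sum_comp π e]
  exact he.2

/-- The count when the degree is below the characteristic. -/
theorem hasGenericCount_small {e : Fin 4 → ℕ} (hsm : p = 0 ∨ d < p) (he : Admissible1 p d e) :
    HasGenericCount (k := k) d e (fourR d e) := by
  obtain ⟨π, hm⟩ := monotone_sort e
  refine hasGenericCount_comp π ?_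
  rw [← fourR_comp π, fourR_eq hm]
  by_cases htop : (e ∘ π) 3 ≤ d
  · have he' := sum_comp he π
    refine hasGenericCount_sorted (p := p) ⟨hsm, ⟨fun i => (he'.1 i).1, ?_⟩, ?_, htop⟩ he'
    · have := he'.2
      rw [Fin.sum_univ_four] at this
      omega
    · exact ⟨hm (by decide), hm (by decide), hm (by decide)⟩
  · rw [show d + 1 - (e ∘ π) 3 = 0 by omega, Nat.min_zero]
    exact hasGenericCount_zero 3 (by omega)

end Assembly

end GrothLib.FourPts10
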