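import Groth.Prelude.Def_W4c1limliniiiiRamP1
import Groth.Agent.Lib.InsepLimit.Basic
import Groth.Agent.Lib.InsepLimit.Main
import Mathlib.RingTheory.Polynomial.Basic
import Mathlib.LinearAlgebra.Dimension.Constructions
import Mathlib.LinearAlgebra.FiniteDimensional.Lemmas
import Mathlib.LinearAlgebra.StdBasis

/-!
# Pencils of small degree with prescribed ramification, and their tangent spaces
-/

set_option autoImplicit false
set_option linter.all false
set_option backward.isDefEq.respectTransparency false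

universe u

noncomputable section

open Polynomial W4c1limliniiii
open GrothLib.InsepLimit (Wr monic_Wr natDegree_Wr not_pow_dvd_Wr eval_Wr_ne_zero pow_dvd_wronskian
  pow_dvd_wronskian_of_pow_dvd natDegree_wronskian_le coeff_wronskian_top)

namespace GrothLib.FourPts10

variable {K : Type u} [Field K] {p d : ℕ} [CharP K p]

theorem natCast_ne {a b : ℕ} (hsm : p = 0 ∨ d < p) (ha : a ≤ d) (hb : b ≤ d) (hab : a ≠ b) : (a : K) ≠ b := by
  intro h
  rw [CharP.natCast_eq_natCast K p] at h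
  rcases hsm with rfl | hp
  · exact hab (Nat.modEq_zero_iff.1 h)
  · exact hab (h.eq_of_lt_of_lt (by omega) (by omega))

/-- Independent polynomials of degree below the characteristic have non-zero Wronskian. -/
theorem wronskian_ne_zero (hsm : p = 0 ∨ d < p) {F G : K[X]} (hF : F.natDegree ≤ d) (hG : G.natDegree ≤ d)
    (hind : ∀ x y : K, C x * F + C y * G = 0 → x = 0 ∧ y = 0) : wronskian F G ≠ 0 := by
  have hF0 : F ≠ 0 := fun h => one_ne_zero (hind 1 0 (by simp [h])).1
  set a := F.natDegree with ha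
  set c := G.coeff a / F.leadingCoeff with hc
  set G' := G - C c * F with hG'
  have hG'0 : G' ≠ 0 := fun h => by
    have := hind (-c) 1 (by rw [map_neg, map_one]; linear_combination h)
    exact one_ne_zero this.2
  have hG'a : G'.coeff a = 0 := by
    rw [hG', coeff_sub, coeff_C_mul, show F.coeff a = F.leadingCoeff from rfl, hc,
      div_mul_cancel₀ _ (leadingCoeff_ne_zero.2 hF0), sub_self]
  have hb : G'.natDegree ≤ d := (natDegree_sub_le _ _).trans (max_le hG ((natDegree_C_mul_le _ _).trans hF))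
  have hne : G'.natDegree ≠ a := fun h => hG'0 (leadingCoeff_eq_zero.1 (by rw [leadingCoeff, h, hG'a]))
  intro hW
  have hW' : wronskian F G' = 0 := by
    have e1 : wronskian F G' = wronskian F G := by
      simp only [hG', wronskian, derivative_sub, derivative_C_mul]; ring
    rw [e1, hW]
  have h1 := coeff_wronskian_top F G' a G'.natDegree le_rfl le_rfl (by omega)
  rw [hW', coeff_zero] at h1
  refine mul_ne_zero (mul_ne_zero (sub_ne_zero.2 (natCast_ne hsm hb hF hne)) ?_) ?_ h1.symm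
  · exact leadingCoeff_ne_zero.2 hF0
  · exact leadingCoeff_ne_zero.2 hG'0

variable {n : ℕ} {e : Fin n → ℕ} {P : Fin n → K}

/-- A pair spanning a space meeting all the ramification conditions has the expected Wronskian. -/
theorem wronskian_eq (hsm : p = 0 ∨ d < p) (hP : Function.Injective P) (hsum : ∑ i, (e i - 1) = 2 * d - 2)
    {F G : K[X]} (hF : F.natDegree ≤ d) (hG : G.natDegree ≤ d)
    (hind : ∀ x y : K, C x * F + C y * G = 0 → x = 0 ∧ y = 0)
    (hram : ∀ i, ∃ α β : K, (α ≠ 0 ∨ β ≠ 0) ∧ (X - C (P i)) ^ e i ∣ C α * F + C β * G) :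
    ∃ c : K, c ≠ 0 ∧ wronskian F G = C c * Wr P e := by
  have hW := wronskian_ne_zero (K := K) hsm hF hG hind
  have hdvd : ∀ i, (X - C (P i)) ^ (e i - 1) ∣ wronskian F G := fun i => by
    obtain ⟨α, β, hne, hd⟩ := hram i
    rcases hne with hα | hβ
    · have e1 : wronskian (C α * F + C β * G) G = C α * wronskian F G := by
        simp only [wronskian, derivative_add, derivative_C_mul]; ring
      have := e1 ▸ pow_dvd_wronskian_of_pow_dvd (Q := G) hd
      exact (IsUnit.dvd_mul_left (isUnit_C.2 (IsUnit.mk0 _ hα))).1 this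
    · have e1 : wronskian (C α * F + C β * G) F = C (-β) * wronskian F G := by
        simp only [wronskian, derivative_add, derivative_C_mul, map_neg]; ring
      have := e1 ▸ pow_dvd_wronskian_of_pow_dvd (Q := F) hd
      exact (IsUnit.dvd_mul_left (isUnit_C.2 (IsUnit.mk0 _ (neg_ne_zero.2 hβ)))).1 this
  obtain ⟨c, hc⟩ : Wr P e ∣ wronskian F G := Finset.prod_dvd_of_coprime (fun i _ j _ hij =>
    ((pairwise_coprime_X_sub_C hP hij).pow : IsCoprime _ _)) fun i _ => hdvd i
  have hc0 : c ≠ 0 := fun h0 => hW (by rw [hc, h0, mul_zero])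
  have hdeg := natDegree_wronskian_le F G d hF hG
  rw [hc, natDegree_mul (monic_Wr P e).ne_zero hc0, natDegree_Wr, hsum] at hdeg
  rw [eq_C_of_natDegree_eq_zero (by omega : c.natDegree = 0)] at hc hc0
  exact ⟨c.coeff 0, fun h => hc0 (by rw [h, map_zero]), by rw [hc, mul_comm]⟩

/-- No member has a higher zero, and no two conditions are met by a common zero. -/
theorem not_dvd_of_wronskian (hP : Function.Injective P) {F G : K[X]} {c : K} (hc : c ≠ 0)
    (hW : wronskian F G = C c * Wr P e) {i : Fin n} (hi : 1 ≤ e i) {α β : K} (hne : α ≠ 0 ∨ β ≠ 0)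
    (hd : (X - C (P i)) ^ (e i + 1) ∣ C α * F + C β * G ∨
      ((X - C (P i)) ^ e i ∣ C α * F + C β * G ∧ (X - C (P i)) ∣ F ∧ (X - C (P i)) ∣ G) ∨
      ((X - C (P i)) ^ e i ∣ C α * F + C β * G ∧ (X - C (P i)) ^ e i ∣ derivative (C α * F + C β * G))) :
    False := by
  have key : ∀ Q : K[X], (Q = F ∨ Q = G) → (X - C (P i)) ^ e i ∣ wronskian (C α * F + C β * G) Q := by
    intro Q hQ
    rcases hd with hd | ⟨hd, h1, h2⟩ | ⟨hd, hd'⟩
    · simpa using pow_dvd_wronskian_of_pow_dvd (Q := Q) hd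
    · rcases hQ with rfl | rfl <;> exact pow_dvd_wronskian hi hd (by assumption)
    · exact dvd_sub (hd.mul_right _) (hd'.mul_right _)
  rcases hne with hα | hβ
  · have e1 : wronskian (C α * F + C β * G) G = C (α * c) * Wr P e := by
      rw [map_mul, mul_assoc, ← hW]
      simp only [wronskian, derivative_add, derivative_C_mul]; ring
    exact not_pow_dvd_Wr P e hP (mul_ne_zero hα hc) i hi (e1 ▸ key G (Or.inr rfl))
  · have e1 : wronskian (C α * F + C β * G) F = C (-β * c) * Wr P e := by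
      rw [map_mul, mul_assoc, ← hW]
      simp only [wronskian, derivative_add, derivative_C_mul, map_neg]; ring
    exact not_pow_dvd_Wr P e hP (mul_ne_zero (neg_ne_zero.2 hβ) hc) i hi (e1 ▸ key F (Or.inl rfl))

/-- The pair is base-point free. -/
theorem eval_ne_zero_of_wronskian (hP : Function.Injective P) (hpos : ∀ i, 1 ≤ e i) {F G : K[X]} {c : K} (hc : c ≠ 0)
    (hW : wronskian F G = C c * Wr P e)
    (hram : ∀ i, ∃ α β : K, (α ≠ 0 ∨ β ≠ 0) ∧ (X - C (P i)) ^ e i ∣ C α * F + C β * G)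
    {x : K} (h1 : F.eval x = 0) (h2 : G.eval x = 0) : False := by
  by_cases hx : ∃ i, x = P i
  · obtain ⟨i, rfl⟩ := hx
    obtain ⟨α, β, hne, hd⟩ := hram i
    exact not_dvd_of_wronskian hP hc hW (hpos i) hne
      (Or.inr (Or.inl ⟨hd, dvd_iff_isRoot.2 h1, dvd_iff_isRoot.2 h2⟩))
  · push_neg at hx
    have h := congrArg (eval x) hW
    simp only [wronskian, eval_sub, eval_mul, h1, h2, zero_mul, mul_zero, sub_zero, eval_C] at h
    exact mul_ne_zero hc (eval_Wr_ne_zero P e hx) h.symm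

/-- A pair meeting the conditions spans a member of `ramMaps`. -/
theorem mem_ramMaps (hsm : p = 0 ∨ d < p) (hd : 1 ≤ d) (hP : Function.Injective P) (hpos : ∀ i, 1 ≤ e i)
    (hsum : ∑ i, (e i - 1) = 2 * d - 2) {F G : K[X]} (hF : F.natDegree ≤ d) (hG : G.natDegree ≤ d)
    (hind : ∀ x y : K, C x * F + C y * G = 0 → x = 0 ∧ y = 0)
    (hram : ∀ i, ∃ α β : K, (α ≠ 0 ∨ β ≠ 0) ∧ (X - C (P i)) ^ e i ∣ C α * F + C β * G) :
    Submodule.span K {F, G} ∈ ramMaps d P e := by
  obtain ⟨c, hc, hW⟩ := wronskian_eq (p := p) hsm hP hsum hF hG hind hram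
  have hW0 : wronskian F G ≠ 0 := hW ▸ mul_ne_zero (C_ne_zero.2 hc) (monic_Wr P e).ne_zero
  refine ⟨⟨?_, ?_, ?_, ?_⟩, ⟨F, Submodule.subset_span (Or.inl rfl), G, Submodule.subset_span (Or.inr rfl), hW0⟩, ?_⟩
  · refine Submodule.span_le.2 ?_
    rintro x (rfl | rfl)
    · exact mem_degreeLE.2 (natDegree_le_iff_degree_le.1 hF)
    · exact mem_degreeLE.2 (natDegree_le_iff_degree_le.1 hG)
  · have li : LinearIndependent K ![F, G] := LinearIndependent.pair_iff.2 fun x y h => hind x y (by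
      simpa [smul_eq_C_mul] using h)
    have := finrank_span_eq_card li
    rwa [Matrix.range_cons_cons_empty, Fintype.card_fin] at this
  · have h1 := natDegree_wronskian_lt_add hW0
    rw [hW, natDegree_C_mul hc, natDegree_Wr, hsum] at h1
    rcases (by omega : F.natDegree = d ∨ G.natDegree = d) with h | h
    · exact ⟨F, Submodule.subset_span (Or.inl rfl), h⟩
    · exact ⟨G, Submodule.subset_span (Or.inr rfl), h⟩
  · intro x
    by_contra hall
    push_neg at hall
    exact eval_ne_zero_of_wronskian hP hpos hc hW hram (hall F (Submodule.subset_span (Or.inl rfl)))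
      (hall G (Submodule.subset_span (Or.inr rfl)))
  · intro i
    refine ⟨?_, fun s hs hs0 => ?_⟩
    · obtain ⟨α, β, hne, hd'⟩ := hram i
      have h0 : C α * F + C β * G ≠ 0 := fun h => by
        obtain ⟨h1, h2⟩ := hind α β h
        exact hne.elim (· h1) (· h2)
      exact ⟨_, Submodule.mem_span_pair.2 ⟨α, β, by simp [smul_eq_C_mul]⟩, h0,
        (le_rootMultiplicity_iff h0).2 hd'⟩
    · obtain ⟨α, β, rfl⟩ := Submodule.mem_span_pair.1 hs
      simp only [smul_eq_C_mul] at hs0 ⊢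
      by_contra hlt
      push_neg at hlt
      refine not_dvd_of_wronskian hP hc hW (hpos i) (α := α) (β := β) ?_
        (Or.inl ((le_rootMultiplicity_iff hs0).1 hlt))
      by_contra h0
      push_neg at h0
      exact hs0 (by simp [h0.1, h0.2])

section LinearAlgebra

variable {V W : Type u} [AddCommGroup V] [Module K V] [AddCommGroup W] [Module K W]

theorem finrank_map_add_inf [FiniteDimensional K V] (T : Submodule K V) (f : V →ₗ[K] W) :
    Module.finrank K (T.map f) + Module.finrank K ↥(T ⊓ LinearMap.ker f) = Module.finrank K T := by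
  have h := LinearMap.finrank_range_add_finrank_ker (f.domRestrict T)
  have h2 : (LinearMap.ker (f.domRestrict T)).map T.subtype = T ⊓ LinearMap.ker f := by
    rw [LinearMap.ker_domRestrict, Submodule.map_comap_subtype]
  rw [LinearMap.range_domRestrict] at h
  rw [← h2, (Submodule.equivMapOfInjective T.subtype T.injective_subtype _).finrank_eq.symm]
  exact h

theorem finrank_le_map_add_inf [FiniteDimensional K V] (T : Submodule K V) (f : V →ₗ[K] W) :
    Module.finrank K T ≤ Module.finrank K (T.map f) + Module.finrank K ↥(T ⊓ LinearMap.ker f) :=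
  (finrank_map_add_inf T f).ge

end LinearAlgebra

section Tangent

variable {e : Fin 4 → ℕ} {P : Fin 4 → K}

/-- The ambient space of first-order deformations. -/
abbrev Def0 (d : ℕ) : Type u := (↥(degreeLE K (d : ℕ)) × ↥(degreeLE K (d : ℕ))) × (K × (Fin 4 → K))

/-- First-order deformations of the normalised pair `F, G` with the four points moving. -/
def tanSpace (d : ℕ) (e : Fin 4 → ℕ) (P : Fin 4 → K) (F G : K[X]) (μ : K) : Submodule K (Def0 (K := K) d) where
  carrier := {v |
    (X - C (P 3)) ^ e 3 ∣ v.1.1.1 + C (v.2.2 3) * derivative F ∧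
    (X - C (P 2)) ^ e 2 ∣ v.1.2.1 + C (v.2.2 2) * derivative G ∧
    (X - C (P 1)) ^ e 1 ∣ v.1.1.1 + v.1.2.1 + C (v.2.2 1) * derivative (F + G) ∧
    (X - C (P 0)) ^ e 0 ∣ C v.2.1 * F + C μ * v.1.1.1 + v.1.2.1 + C (v.2.2 0) * derivative (C μ * F + G)}
  zero_mem' := by simp
  add_mem' := by
    rintro v w ⟨h3, h2, h1, h0⟩ ⟨g3, g2, g1, g0⟩
    refine ⟨?_, ?_, ?_, ?_⟩
    · convert dvd_add h3 g3 using 1; simp; ring
    · convert dvd_add h2 g2 using 1; simp; ring
    · convert dvd_add h1 g1 using 1; simp; ring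
    · convert dvd_add h0 g0 using 1; simp; ring
  smul_mem' := by
    rintro a v ⟨h3, h2, h1, h0⟩
    refine ⟨?_, ?_, ?_, ?_⟩
    · convert h3.mul_left (C a) using 1; simp [smul_eq_C_mul]; ring
    · convert h2.mul_left (C a) using 1; simp [smul_eq_C_mul]; ring
    · convert h1.mul_left (C a) using 1; simp [smul_eq_C_mul]; ring
    · convert h0.mul_left (C a) using 1; simp [smul_eq_C_mul]; ring

theorem finite_degreeLE : Module.Finite K (degreeLE K (d : ℕ)) := by
  classical
  exact Module.Finite.iff_fg.2 ⟨_, (degreeLE_eq_span_X_pow (R := K) (n := d)).symm⟩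

theorem finrank_degreeLE_le : Module.finrank K (degreeLE K (d : ℕ)) ≤ d + 1 := by
  classical
  rw [degreeLE_eq_span_X_pow]
  exact (finrank_span_finset_le_card _).trans (Finset.card_image_le.trans (by simp))

/-- If the points can be moved independently, every deformation fixing them is a rescaling. -/
theorem tan_vertical (hsm : p = 0 ∨ d < p) (hd : 1 ≤ d) (hP : Function.Injective P) (hpos : ∀ i, 1 ≤ e i)
    (hsum : ∑ i, (e i - 1) = 2 * d - 2) {F G : K[X]} (hF : F.natDegree ≤ d) (hG : G.natDegree ≤ d)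
    (hind : ∀ x y : K, C x * F + C y * G = 0 → x = 0 ∧ y = 0) {μ : K} (hμ : μ ≠ 0)
    (h3 : (X - C (P 3)) ^ e 3 ∣ F) (h2 : (X - C (P 2)) ^ e 2 ∣ G) (h1 : (X - C (P 1)) ^ e 1 ∣ F + G)
    (h0 : (X - C (P 0)) ^ e 0 ∣ C μ * F + G)
    (hmove : ∀ j : Fin 4, ∃ v ∈ tanSpace d e P F G μ, v.2.2 = Pi.single j 1)
    {v : Def0 (K := K) d} (hv : v ∈ tanSpace d e P F G μ) (hv0 : v.2.2 = 0) :
    ∃ t : K, v.1.1.1 = C t * F ∧ v.1.2.1 = C t * G ∧ v.2.1 = 0 := by
  classical
  have hram : ∀ i, ∃ α β : K, (α ≠ 0 ∨ β ≠ 0) ∧ (X - C (P i)) ^ e i ∣ C α * F + C β * G := by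
    intro i
    fin_cases i
    · exact ⟨μ, 1, Or.inr one_ne_zero, by simpa using h0⟩
    · exact ⟨1, 1, Or.inr one_ne_zero, by simpa using h1⟩
    · exact ⟨0, 1, Or.inr one_ne_zero, by simpa using h2⟩
    · exact ⟨1, 0, Or.inl one_ne_zero, by simpa using h3⟩
  obtain ⟨c, hc, hW⟩ := wronskian_eq (p := p) hsm hP hsum hF hG hind hram
  have hW0 : wronskian F G ≠ 0 := hW ▸ mul_ne_zero (C_ne_zero.2 hc) (monic_Wr P e).ne_zero
  have hcop : IsCoprime F G := by
    refine isCoprime_of_prime_dvd (fun h => one_ne_zero (hind 1 0 (by simp [h.1])).1) fun π hπ hπF hπG => ?_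
    have hπW : π ∣ C c * Wr P e := hW ▸ dvd_sub (hπF.mul_right _) (hπG.mul_left _)
    have hπW' : π ∣ Wr P e := (hπ.dvd_or_dvd hπW).resolve_left fun h =>
      hπ.not_unit (isUnit_of_dvd_unit h (isUnit_C.2 (IsUnit.mk0 _ hc)))
    obtain ⟨i, -, hi⟩ := (hπ.dvd_finsetProd_iff _).1 hπW'
    have hi' : X - C (P i) ∣ π :=
      (hπ.irreducible.associated_of_dvd (irreducible_X_sub_C _) (hπ.dvd_of_dvd_pow hi)).symm.dvd
    obtain ⟨α, β, hne, hdv⟩ := hram i
    exact not_dvd_of_wronskian hP hc hW (hpos i) hne (Or.inr (Or.inl ⟨hdv, hi'.trans hπF, hi'.trans hπG⟩))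
  haveI := finite_degreeLE (K := K) (d := d)
  let T := tanSpace d e P F G μ
  let qmap : Def0 (K := K) d →ₗ[K] (Fin 4 → K) :=
    (LinearMap.snd K K (Fin 4 → K)).comp (LinearMap.snd K _ _)
  let mmap : Def0 (K := K) d →ₗ[K] K :=
    (LinearMap.fst K K (Fin 4 → K)).comp (LinearMap.snd K _ _)
  let Zl : Def0 (K := K) d →ₗ[K] K[X] :=
    { toFun := fun w => w.1.1.1 * G - F * w.1.2.1
      map_add' := fun a b => by simp; ring
      map_smul' := fun a b => by simp [smul_eq_C_mul]; ring }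
  let N1 : Submodule K (Def0 (K := K) d) := T ⊓ LinearMap.ker mmap
  let Q : Submodule K K[X] := (degreeLE K (2 : ℕ)).map (LinearMap.mulLeft K (Wr P e))
  have hdiv : ∀ w ∈ N1, Zl w ∈ Q := by
    intro w hw
    obtain ⟨⟨⟨f, hf⟩, ⟨g, hg⟩⟩, μ', q⟩ := w
    obtain ⟨⟨g3, g2, g1, g0⟩, hm⟩ := hw
    have hm' : μ' = 0 := hm
    subst hm'
    dsimp only at g3 g2 g1 g0
    rw [map_zero, zero_mul, zero_add] at g0
    show f * G - F * g ∈ Q
    have key : ∀ (i : Fin 4) (T dT : K[X]), (X - C (P i)) ^ e i ∣ T →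
        (X - C (P i)) ^ e i ∣ dT + C (q i) * derivative T → (X - C (P i)) ^ (e i - 1) ∣ dT := by
      intro i T dT hT hdT
      exact (dvd_add_left ((pow_sub_one_dvd_derivative_of_pow_dvd hT).mul_left _)).1
        ((pow_dvd_pow _ (Nat.sub_le _ _)).trans hdT)
    have low : ∀ (i : Fin 4) (T : K[X]), (X - C (P i)) ^ e i ∣ T → (X - C (P i)) ^ (e i - 1) ∣ T :=
      fun i T hT => (pow_dvd_pow _ (Nat.sub_le _ _)).trans hT
    have hall : ∀ i, (X - C (P i)) ^ (e i - 1) ∣ f * G - F * g := by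
      intro i
      fin_cases i
      · refine (IsUnit.dvd_mul_left (isUnit_C.2 (IsUnit.mk0 _ hμ))).1 ?_
        rw [show C μ * (f * G - F * g) = (C μ * f + g) * G - (C μ * F + G) * g by ring]
        exact dvd_sub ((key 0 _ _ h0 g0).mul_right _) ((low 0 _ h0).mul_right _)
      · rw [show f * G - F * g = (f + g) * G - (F + G) * g by ring]
        exact dvd_sub ((key 1 _ _ h1 g1).mul_right _) ((low 1 _ h1).mul_right _)
      · exact dvd_sub ((low 2 _ h2).mul_left _) ((key 2 _ _ h2 g2).mul_left _)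
      · exact dvd_sub ((key 3 _ _ h3 g3).mul_right _) ((low 3 _ h3).mul_right _)
    obtain ⟨h, hh⟩ : Wr P e ∣ f * G - F * g := Finset.prod_dvd_of_coprime (fun i _ j _ hij =>
      ((pairwise_coprime_X_sub_C hP hij).pow : IsCoprime _ _)) fun i _ => hall i
    refine ⟨h, ?_, hh.symm⟩
    rw [SetLike.mem_coe, mem_degreeLE]
    by_cases hh0 : h = 0
    · simp [hh0]
    refine natDegree_le_iff_degree_le.1 ?_
    have hf' : f.natDegree ≤ d := natDegree_le_of_degree_le (mem_degreeLE.1 hf)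
    have hg' : g.natDegree ≤ d := natDegree_le_of_degree_le (mem_degreeLE.1 hg)
    have hdeg : (f * G - F * g).natDegree ≤ 2 * d :=
      (natDegree_sub_le _ _).trans (max_le (natDegree_mul_le.trans (by omega)) (natDegree_mul_le.trans (by omega)))
    rw [hh, natDegree_mul (monic_Wr P e).ne_zero hh0, natDegree_Wr, hsum] at hdeg
    omega
  have hker : ∀ w ∈ N1, Zl w = 0 → ∃ t : K, w.1.1.1 = C t * F ∧ w.1.2.1 = C t * G ∧ w.2.2 = 0 := by
    intro w hwN hw
    obtain ⟨⟨⟨f, hf⟩, ⟨g, hg⟩⟩, μ', q⟩ := w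
    obtain ⟨⟨g3, g2, g1, g0⟩, hm⟩ := hwN
    have hm' : μ' = 0 := hm
    subst hm'
    dsimp only at g3 g2 g1 g0 ⊢
    rw [map_zero, zero_mul, zero_add] at g0
    have hZ : f * G = F * g := sub_eq_zero.1 hw
    have hF0 : F ≠ 0 := fun h => one_ne_zero (hind 1 0 (by simp [h])).1
    have hG0 : G ≠ 0 := fun h => one_ne_zero (hind 0 1 (by simp [h])).2
    obtain ⟨s, hs⟩ : F ∣ f := hcop.dvd_of_dvd_mul_right ⟨g, hZ⟩
    have hgs : g = s * G := mul_left_cancel₀ hF0 (by rw [← hZ, hs]; ring)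
    have hsC : s = C (s.coeff 0) := by
      by_cases hs0 : s = 0
      · simp [hs0]
      refine eq_C_of_natDegree_eq_zero ?_
      have h1 := natDegree_wronskian_lt_add hW0
      rw [hW, natDegree_C_mul hc, natDegree_Wr, hsum] at h1
      have hf' : f.natDegree ≤ d := natDegree_le_of_degree_le (mem_degreeLE.1 hf)
      have hg' : g.natDegree ≤ d := natDegree_le_of_degree_le (mem_degreeLE.1 hg)
      rw [hs, natDegree_mul hF0 hs0] at hf'
      rw [hgs, natDegree_mul hs0 hG0] at hg'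
      omega
    set t := s.coeff 0
    have hft : f = C t * F := by rw [hs, hsC, mul_comm]
    have hgt : g = C t * G := by rw [hgs, hsC]
    refine ⟨t, hft, hgt, funext fun i => ?_⟩
    have hq : ∀ (α β : K), (α ≠ 0 ∨ β ≠ 0) → (X - C (P i)) ^ e i ∣ C α * F + C β * G →
        (X - C (P i)) ^ e i ∣ C t * (C α * F + C β * G) + C (q i) * derivative (C α * F + C β * G) → q i = 0 := by
      intro α β hne hT hd'
      by_contra hq0
      have := (dvd_add_right (hT.mul_left _)).1 hd'
      exact not_dvd_of_wronskian hP hc hW (hpos i) hne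
        (Or.inr (Or.inr ⟨hT, (IsUnit.dvd_mul_left (isUnit_C.2 (IsUnit.mk0 _ hq0))).1 this⟩))
    simp only [hft, hgt] at g0 g1 g3 g2
    fin_cases i
    · refine hq μ 1 (Or.inr one_ne_zero) (by simpa using h0) ?_
      convert g0 using 1
      all_goals (simp; try ring)
    · refine hq 1 1 (Or.inr one_ne_zero) (by simpa using h1) ?_
      convert g1 using 1
      all_goals (simp; try ring)
    · refine hq 0 1 (Or.inr one_ne_zero) (by simpa using h2) ?_
      convert g2 using 1
      all_goals (simp; try ring)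
    · refine hq 1 0 (Or.inl one_ne_zero) (by simpa using h3) ?_
      convert g3 using 1
      all_goals (simp; try ring)
  have hscal : ∀ t : K, ∀ (hf : C t * F ∈ degreeLE K (d : ℕ)) (hg : C t * G ∈ degreeLE K (d : ℕ)),
      (((⟨C t * F, hf⟩, ⟨C t * G, hg⟩), ((0 : K), (0 : Fin 4 → K))) : Def0 (K := K) d) ∈ T := by
    intro t hf hg
    refine ⟨?_, ?_, ?_, ?_⟩ <;> simp only [Pi.zero_apply, map_zero, zero_mul, add_zero, zero_add]
    · exact h3.mul_left _
    · exact h2.mul_left _
    · rw [← mul_add]; exact h1.mul_left _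
    · rw [show C μ * (C t * F) + C t * G = C t * (C μ * F + G) by ring]; exact h0.mul_left _
  have hsF : ∀ t : K, C t * F ∈ degreeLE K (d : ℕ) := fun t =>
    mem_degreeLE.2 (natDegree_le_iff_degree_le.1 ((natDegree_C_mul_le _ _).trans hF))
  have hsG : ∀ t : K, C t * G ∈ degreeLE K (d : ℕ) := fun t =>
    mem_degreeLE.2 (natDegree_le_iff_degree_le.1 ((natDegree_C_mul_le _ _).trans hG))
  -- dimension count
  have hF0 : F ≠ 0 := fun h => one_ne_zero (hind 1 0 (by simp [h])).1
  let v₀ : Def0 (K := K) d := ((⟨C 1 * F, hsF 1⟩, ⟨C 1 * G, hsG 1⟩), ((0 : K), (0 : Fin 4 → K)))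
  have hv₀T : v₀ ∈ T := hscal 1 (hsF 1) (hsG 1)
  have hv₀ : v₀ ≠ 0 := fun h => hF0 (by
    have := congrArg (fun z : Def0 (K := K) d => z.1.1.1) h
    simpa [v₀] using this)
  have hkZ : N1 ⊓ LinearMap.ker Zl ≤ Submodule.span K {v₀} := by
    rintro w ⟨hwN, hw⟩
    obtain ⟨t, h₁, h₂, h₃⟩ := hker w hwN hw
    refine Submodule.mem_span_singleton.2 ⟨t, ?_⟩
    have hm : w.2.1 = 0 := hwN.2
    refine Prod.ext (Prod.ext (Subtype.ext ?_) (Subtype.ext ?_)) (Prod.ext ?_ ?_)
    · simp [v₀, h₁, smul_eq_C_mul]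
    · simp [v₀, h₂, smul_eq_C_mul]
    · simp [v₀, hm]
    · simp [v₀, h₃]
  haveI := finite_degreeLE (K := K) (d := 2)
  have hrZ : Module.finrank K (N1.map Zl) ≤ 3 := by
    refine (Submodule.finrank_mono (t := Q) ?_).trans ((Submodule.finrank_map_le _ _).trans finrank_degreeLE_le)
    rintro _ ⟨w, hw, rfl⟩
    exact hdiv w hw
  have hspan1 : Module.finrank K (Submodule.span K {v₀}) = 1 := finrank_span_singleton hv₀
  have hTd : Module.finrank K T ≤ 5 := by
    have h1 := finrank_le_map_add_inf T mmap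
    have h2 := finrank_le_map_add_inf N1 Zl
    have h3 := Submodule.finrank_mono hkZ
    have h' : Module.finrank K (T.map mmap) ≤ 1 :=
      (Submodule.finrank_le _).trans (Module.finrank_self K).le
    have h'' : Module.finrank K ↥(T ⊓ LinearMap.ker mmap) = Module.finrank K ↥N1 := rfl
    omega
  have hq : T.map qmap = ⊤ := by
    rw [eq_top_iff, ← (Pi.basisFun K (Fin 4)).span_eq, Submodule.span_le]
    rintro _ ⟨j, rfl⟩
    obtain ⟨v, hvT, hvq⟩ := hmove j
    exact ⟨v, hvT, by rw [Pi.basisFun_apply]; exact hvq⟩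
  have hkq : Module.finrank K ↥(T ⊓ LinearMap.ker qmap) ≤ 1 := by
    have h1 := finrank_map_add_inf T qmap
    rw [hq, finrank_top, Module.finrank_fin_fun] at h1
    omega
  have hle : Submodule.span K {v₀} ≤ T ⊓ LinearMap.ker qmap :=
    (Submodule.span_singleton_le_iff_mem _ _).2 ⟨hv₀T, rfl⟩
  have heq := Submodule.eq_of_le_of_finrank_le hle (by omega)
  obtain ⟨t, ht⟩ := Submodule.mem_span_singleton.1 (heq.ge ⟨hv, hv0⟩ : v ∈ Submodule.span K {v₀})
  refine ⟨t, ?_, ?_, ?_⟩ <;> rw [← ht] <;> simp [v₀, smul_eq_C_mul]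

end Tangent

end GrothLib.FourPts10
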